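import Mathlib
import Cfsg.Agent.Inv.UHAut

/-! Field lemmas for U3S. `F` has order `q²`, characteristic 2, `k = {a | σ a = a}`; every
element of `k` is the square of an element of `k`. -/

set_option autoImplicit false
set_option linter.unusedSectionVars false

namespace Cfsg.Agent.U3S

open Cfsg.Agent.Class.U Cfsg.Agent.Inv

variable {F : Type*} [Field F] {q : ℕ} [UF F q] [CharP F 2]

local notation "σ" => conj F q

/-- Frobenius is bijective and commutes with `σ`. -/
theorem exists_sqrt {a : F} (ha : σ a = a) : ∃ b, σ b = b ∧ b * b = a := by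
  have := UF.finite (F := F) q
  have h2 : (2 : F) = 0 := CharTwo.two_eq_zero
  obtain ⟨l, rfl⟩ := (frobeniusEquiv F 2).surjective a
  have e : frobeniusEquiv F 2 l = l * l := by simp [frobenius_def, sq]
  rw [e] at ha ⊢
  refine ⟨l, ?_, rfl⟩
  rw [map_mul] at ha
  have : (σ l - l) ^ 2 = 0 := by linear_combination ha + (l * l - σ l * l) * h2
  exact sub_eq_zero.1 (pow_eq_zero_iff two_ne_zero |>.1 this)

/-- BIL. Polarise `hom` at `κ + 1`: `γ (κ x) y + γ x (κ y) = 0`, so `γ (κ x) y = γ x (κ y)`. Then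
`γ (κ² x) y = γ (κ x) (κ y) = κ² γ x y`, and every element of `k` is a square. -/
theorem bil (V W : AddSubgroup F) (hV : ∀ κ, σ κ = κ → ∀ x ∈ V, κ * x ∈ V)
    (hW : ∀ κ, σ κ = κ → ∀ x ∈ W, κ * x ∈ W) (γ : F → F → F)
    (al : ∀ x ∈ V, ∀ x' ∈ V, ∀ y ∈ W, γ (x + x') y = γ x y + γ x' y)
    (ar : ∀ x ∈ V, ∀ y ∈ W, ∀ y' ∈ W, γ x (y + y') = γ x y + γ x y')
    (hom : ∀ κ, σ κ = κ → ∀ x ∈ V, ∀ y ∈ W, γ (κ * x) (κ * y) = κ * κ * γ x y)
    {κ : F} (hκ : σ κ = κ) {x y : F} (hx : x ∈ V) (hy : y ∈ W) :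
    γ (κ * x) y = κ * γ x y ∧ γ x (κ * y) = κ * γ x y := by
  have h2 : (2 : F) = 0 := CharTwo.two_eq_zero
  have sw : ∀ κ, σ κ = κ → ∀ x ∈ V, ∀ y ∈ W, γ (κ * x) y = γ x (κ * y) := fun κ hκ x hx y hy => by
    have e := hom (κ + 1) (by rw [map_add, map_one, hκ]) x hx y hy
    rw [add_mul κ 1 x, add_mul κ 1 y, one_mul, one_mul,
      al _ (hV κ hκ x hx) _ hx _ (add_mem (hW κ hκ y hy) hy), ar _ (hV κ hκ x hx) _ (hW κ hκ y hy) _ hy,
      ar _ hx _ (hW κ hκ y hy) _ hy, hom κ hκ x hx y hy] at e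
    linear_combination e + (κ * γ x y - γ x (κ * y)) * h2
  obtain ⟨b, hb, rfl⟩ := exists_sqrt hκ
  have e : γ (b * b * x) y = b * b * γ x y := by
    rw [mul_assoc, sw b hb _ (hV b hb x hx) y hy, hom b hb x hx y hy]
  exact ⟨e, by rw [← sw _ hκ x hx y hy, e]⟩

/-- An additive map on `k` commuting with a generator `m` of `k*` is multiplication by `f 1`. -/
theorem lin_of_gen {m : F} (gen : ∀ a : F, σ a = a → a ≠ 0 → ∃ n : ℕ, a = m ^ n) (hm : σ m = m)
    (f : F → F) (h0 : f 0 = 0) (hf : ∀ a, σ a = a → f (m * a) = m * f a) {a : F} (ha : σ a = a) :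
    f a = a * f 1 := by
  by_cases a0 : a = 0
  · rw [a0, h0, zero_mul]
  obtain ⟨n, rfl⟩ := gen a ha a0
  clear ha a0
  induction n with
  | zero => simp
  | succ n ih => rw [pow_succ', hf _ (by rw [map_pow, hm]), ih, mul_assoc]

/-- If `m` generates `k*` so does `m²` (squaring is bijective on `k`). -/
theorem gen_sq {m : F} (gen : ∀ a : F, σ a = a → a ≠ 0 → ∃ n : ℕ, a = m ^ n) (a : F)
    (ha : σ a = a) (a0 : a ≠ 0) : ∃ n : ℕ, a = (m * m) ^ n := by
  obtain ⟨b, hb, rfl⟩ := exists_sqrt ha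
  obtain ⟨n, rfl⟩ := gen b hb fun e => a0 (by rw [e, mul_zero])
  exact ⟨n, (mul_pow _ _ _).symm⟩

/-- `F = k + k l` for `l ∉ k` (solve with `c = (f + σ f)/(l + σ l)`). -/
theorem exists_comb {l : F} (hl : σ l ≠ l) (f : F) :
    ∃ b c, σ b = b ∧ σ c = c ∧ f = b + c * l := by
  have h2 : (2 : F) = 0 := CharTwo.two_eq_zero
  have l0 : l + σ l ≠ 0 := fun e => hl (by linear_combination e - l * h2)
  have hc : σ ((f + σ f) / (l + σ l)) = (f + σ f) / (l + σ l) := by
    rw [map_div₀, map_add, map_add, conj_conj, conj_conj, add_comm (σ f), add_comm (σ l)]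
  have e := div_mul_cancel₀ (f + σ f) l0
  generalize (f + σ f) / (l + σ l) = c at hc e
  refine ⟨f - c * l, c, ?_, hc, by ring⟩
  rw [map_sub, map_mul, hc]
  linear_combination -e + (c * l - f) * h2

/-- `l σ(l) = 1`, `l ≠ 1` gives `l ∉ k` (else `l² = 1`). -/
theorem conj_ne_of_norm {l : F} (h : l * σ l = 1) (h1 : l ≠ 1) : σ l ≠ l := by
  have h2 : (2 : F) = 0 := CharTwo.two_eq_zero
  intro e
  rw [e] at h
  have : (l - 1) ^ 2 = 0 := by linear_combination h + (1 - l) * h2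
  exact h1 (sub_eq_zero.1 (pow_eq_zero_iff two_ne_zero |>.1 this))

/-- A `k`-linear map `F → k` is `x ↦ Tr(κ x)` (compare on the basis `1, l`; the trace form is
nondegenerate: solve `Tr κ = f 1`, `Tr(κ l) = f l`). -/
theorem exists_tr (f : F → F) (ha : ∀ x y, f (x + y) = f x + f y) (hk : ∀ x, σ (f x) = f x)
    (hl : ∀ κ, σ κ = κ → ∀ x, f (κ * x) = κ * f x) : ∃ κ, ∀ x, f x = κ * x + σ (κ * x) := by
  have h2 : (2 : F) = 0 := CharTwo.two_eq_zero
  obtain ⟨l, hl'⟩ := exists_conj_ne F q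
  have l0 : l + σ l ≠ 0 := fun e => hl' (by linear_combination e - l * h2)
  have e1 := div_mul_cancel₀ (f l + f 1 * σ l) l0
  generalize (f l + f 1 * σ l) / (l + σ l) = κ at e1
  have e2 := congrArg σ e1
  simp only [map_mul, map_add, conj_conj, hk] at e2
  refine ⟨κ, fun x => ?_⟩
  obtain ⟨b, c, hb, hc, rfl⟩ := exists_comb hl' x
  rw [ha, hl c hc, ← mul_one b, hl b hb, mul_one, map_mul, map_add, map_mul, hb, hc]
  refine mul_right_cancel₀ l0 ?_
  linear_combination -(b + c * l) * e1 - (b + c * σ l) * e2 - (b * f l + c * f 1 * l * σ l) * h2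

/-- HERM1. `bil` makes `γ` `k`-bilinear; `γ (l x) y = γ x (σ l y)` (as `l σ l = 1`), so by
`exists_comb` `γ (f x) y = γ x (σ f y)`... hence `γ x y = γ (x σ y) 1`; apply `exists_tr`. -/
theorem herm1 {m l : F} (gen : ∀ a : F, σ a = a → a ≠ 0 → ∃ n : ℕ, a = m ^ n) (hm : σ m = m)
    (h : l * σ l = 1) (h1 : l ≠ 1) (γ : F → F → F)
    (al : ∀ x x' y, γ (x + x') y = γ x y + γ x' y) (ar : ∀ x y y', γ x (y + y') = γ x y + γ x y')
    (hk : ∀ x y, σ (γ x y) = γ x y) (hom : ∀ x y, γ (m * x) (m * y) = m * m * γ x y)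
    (inv : ∀ x y, γ (l * x) (l * y) = γ x y) :
    ∃ κ, ∀ x y, γ x y = κ * (x * σ y) + σ (κ * (x * σ y)) := by
  have z : ∀ y, γ 0 y = 0 := fun y => by simpa using al 0 0 y
  have hom' : ∀ κ, σ κ = κ → ∀ x y, γ (κ * x) (κ * y) = κ * κ * γ x y := fun κ hκ x y => by
    by_cases a0 : κ = 0
    · simp [a0, z]
    obtain ⟨n, rfl⟩ := gen κ hκ a0
    clear hκ a0
    induction n with
    | zero => simp
    | succ n ih => rw [pow_succ', mul_assoc, mul_assoc, hom, ih]; ring
  have b := fun κ (hκ : σ κ = κ) x y => bil ⊤ ⊤ (fun _ _ _ _ => trivial) (fun _ _ _ _ => trivial) γ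
    (fun x _ x' _ y _ => al x x' y) (fun x _ y _ y' _ => ar x y y')
    (fun κ hκ x _ y _ => hom' κ hκ x y) hκ (x := x) (y := y) trivial trivial
  have e : ∀ f x y, γ (f * x) y = γ x (σ f * y) := fun f x y => by
    obtain ⟨c, d, hc, hd, rfl⟩ := exists_comb (conj_ne_of_norm h h1) f
    rw [map_add, map_mul, hc, hd, add_mul, add_mul, al, ar, mul_assoc, mul_assoc, (b c hc _ _).1,
      (b c hc _ _).2, (b d hd _ _).1, (b d hd _ _).2, ← inv x (σ l * y), ← mul_assoc l, h, one_mul]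
  obtain ⟨κ, hκ⟩ := exists_tr (fun x => γ x 1) (fun x y => al x y 1) (fun x => hk x 1)
    fun κ hκ x => (b κ hκ x 1).1
  exact ⟨κ, fun x y => by rw [← hκ, mul_comm, e, conj_conj, mul_one]⟩

/-- HERM2. The polar form `γ` of `Q` satisfies `herm1` and is alternating, so `κ ∈ k`;
`f = Q + κ N` is additive with `f (l x) = f x`, so `f ((l + 1) x) = 0` and `f = 0`. -/
theorem herm2 {m l : F} (gen : ∀ a : F, σ a = a → a ≠ 0 → ∃ n : ℕ, a = m ^ n) (hm : σ m = m)
    (h : l * σ l = 1) (h1 : l ≠ 1) (Q : F → F) (h0 : Q 0 = 0)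
    (pol : ∀ x x' y, Q (x + x' + y) + Q (x + x') + Q (x + y) + Q (x' + y) + Q x + Q x' + Q y = 0)
    (hk : ∀ x, σ (Q x) = Q x) (hom : ∀ x, Q (m * x) = m * m * Q x) (inv : ∀ x, Q (l * x) = Q x) :
    ∃ ν, σ ν = ν ∧ ∀ x, Q x = ν * (x * σ x) := by
  have h2 : (2 : F) = 0 := CharTwo.two_eq_zero
  obtain ⟨κ, hκ⟩ := herm1 gen hm h h1 (fun x y => Q (x + y) + Q x + Q y)
    (fun x x' y => by
      linear_combination pol x x' y - (Q (x + y) + Q (x' + y) + Q x + Q x' + Q y) * h2)
    (fun x y y' => by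
      have := pol y y' x
      rw [add_comm (y + y') x, add_comm y x, add_comm y' x] at this
      linear_combination this - (Q (x + y) + Q (x + y') + Q x + Q y + Q y') * h2)
    (fun x y => by simp only [map_add, hk])
    (fun x y => by simp only [← mul_add, hom])
    (fun x y => by simp only [← mul_add, inv])
  have k : σ κ = κ := by
    have := hκ 1 1
    rw [one_add_one_eq_two, h2, h0] at this
    simp only [map_one, mul_one] at this
    linear_combination -this + (Q 1 - κ) * h2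
  refine ⟨κ, k, fun y => ?_⟩
  have l1 : l + 1 ≠ 0 := fun e => h1 (by linear_combination e - h2)
  obtain ⟨x, rfl⟩ : ∃ x, y = l * x + x := ⟨y / (l + 1), by field_simp⟩
  have e := hκ (l * x) x
  simp only [map_mul, map_add, conj_conj, k, inv] at e ⊢
  linear_combination e - κ * x * σ x * h - (Q x + κ * x * σ x) * h2

/-- Hyperplane lemma. If some `c ∈ V#` has `c k ⊄ V` then `d ↦ Tr(c σ d)` (kernel `c k`) maps `V`
onto `k`: given `d` with the right value, `d ∈ V` or `d + c κ ∈ V` for `c κ ∉ V`. Otherwise `V` is a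
`k`-subspace; if `V ≠ F` take `d ∉ V` and `κ ∈ k - {0,1}` (`q ≥ 4`): `κ d ∉ V`, `(κ+1) d ∉ V`,
but their sum `d` lies in `V`. -/
theorem hyper (h4 : 4 ≤ q) (V : AddSubgroup F) (h2 : ∀ x y, x ∉ V → y ∉ V → x + y ∈ V) {a : F}
    (ha : σ a = a) : ∃ c ∈ V, ∃ d ∈ V, c * σ d + d * σ c = a := by
  have h2' : (2 : F) = 0 := CharTwo.two_eq_zero
  obtain ⟨t, rfl⟩ := exists_trace_eq ha
  by_cases c : ∃ c ∈ V, ∃ κ, σ κ = κ ∧ κ * c ∉ V
  · obtain ⟨c, hc, κ, hκ, n⟩ := c
    have c0 : c ≠ 0 := fun e => n (by rw [e, mul_zero]; exact zero_mem V)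
    have e : c * σ (σ (t / c)) + σ (t / c) * σ c = t + σ t := by
      rw [conj_conj, ← map_mul, div_mul_cancel₀ _ c0, mul_div_cancel₀ _ c0]
    by_cases d : σ (t / c) ∈ V
    · exact ⟨c, hc, _, d, e⟩
    · refine ⟨c, hc, _, h2 _ _ d n, ?_⟩
      rw [map_add, map_mul σ κ, hκ]
      linear_combination e + κ * c * σ c * h2'
  push Not at c
  have all : ∀ d, d ∈ V := fun d => by
    by_contra n
    obtain ⟨κ, hκ, k0, k1⟩ : ∃ κ : F, σ κ = κ ∧ κ ≠ 0 ∧ κ ≠ 1 := by
      by_contra! k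
      have := Nat.card_le_card_of_injective (fun x : {x : F // σ x = x} => x.1 = 0) fun x y e => by
        by_cases x0 : x.1 = 0
        · exact Subtype.ext (x0.trans (e.to_iff.1 x0).symm)
        · exact Subtype.ext ((k _ x.2 x0).trans (k _ y.2 fun y0 => x0 (e.to_iff.2 y0)).symm)
      rw [card_fixed, Nat.card_eq_fintype_card, Fintype.card_prop] at this
      omega
    have m : ∀ κ : F, σ κ = κ → κ ≠ 0 → κ * d ∉ V := fun κ hκ k0 e =>
      n (by simpa [k0] using c _ e κ⁻¹ (by rw [map_inv₀, hκ]))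
    refine n ?_
    convert h2 _ _ (m κ hκ k0) (m (κ + 1) (by rw [map_add, map_one, hκ])
      fun e => k1 (by linear_combination e - h2')) using 1
    linear_combination -κ * d * h2'
  exact ⟨1, all _, σ t, all _, by simp [conj_conj]⟩

/-- `e² + e = ν` is solvable for `ν ∈ k`: `℘ x = x² + x` is additive on `k` with kernel `{0,1}`, so
`℘(k)` has index 2 in `k`; for `s + σ s = 1` the element `℘ s` lies in `k - ℘(k)`. -/
theorem exists_root {ν : F} (hν : σ ν = ν) : ∃ e : F, e * e + e = ν := by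
  classical
  have := UF.finite (F := F) q
  have := Fintype.ofFinite F
  have h2 : (2 : F) = 0 := CharTwo.two_eq_zero
  have c0 : (Finset.univ.filter fun x : F => σ x = x).card = q := by
    rw [← Fintype.card_subtype, ← Nat.card_eq_fintype_card, card_fixed]
  have c1 : (Finset.univ.filter fun x : F => x + σ x = 1).card = q := by
    rw [← Fintype.card_subtype, ← Nat.card_eq_fintype_card, card_trace_fiber (map_one _)]
  have c2 := Finset.card_le_mul_card_image (f := fun e : F => e * e + e)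
    ((Finset.univ.filter fun x : F => σ x = x) ∪ Finset.univ.filter fun x : F => x + σ x = 1) 2
    fun a ha => by
      obtain ⟨b, -, rfl⟩ := Finset.mem_image.1 ha
      refine (Finset.card_le_card fun x hx => ?_).trans (Finset.card_le_two (a := b) (b := b + 1))
      have e : (x - b) * (x - (b + 1)) = 0 := by
        linear_combination (Finset.mem_filter.1 hx).2 + (b * b + b - x * b - x) * h2
      simpa [sub_eq_zero] using e
  rw [Finset.card_union_of_disjoint (Finset.disjoint_filter.2 fun x _ e e' => by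
    rw [e, ← two_mul, h2, zero_mul] at e'; exact zero_ne_one e'), c0, c1] at c2
  have := Finset.eq_of_subset_of_card_le (t := Finset.univ.filter fun x : F => σ x = x)
    (s := Finset.image (fun e : F => e * e + e) ((Finset.univ.filter fun x : F => σ x = x) ∪
      Finset.univ.filter fun x : F => x + σ x = 1)) (fun a ha => by
        obtain ⟨b, hb, rfl⟩ := Finset.mem_image.1 ha
        simp only [Finset.mem_union, Finset.mem_filter, Finset.mem_univ, true_and, map_add,
          map_mul] at hb ⊢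
        rcases hb with hb | hb
        · rw [hb]
        · linear_combination (σ b - b) * hb + (σ b - b) * h2) (by omega)
  obtain ⟨e, -, he⟩ := Finset.mem_image.1 (this.ge (Finset.mem_filter.2 ⟨Finset.mem_univ _, hν⟩))
  exact ⟨e, he⟩

/-- The fixed points of `c ↦ l σ c` form a line `m k` and are the image of `c ↦ c + l σ c`
(Hilbert 90: `exists_conj_div_eq`). -/
theorem exists_line {l : F} (h : l * σ l = 1) : ∃ m : F, m ≠ 0 ∧
    (∀ c, l * σ c = c ↔ ∃ κ, σ κ = κ ∧ c = m * κ) ∧ ∀ c, l * σ c = c → ∃ d, c = d + l * σ d := by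
  obtain ⟨m, m0, hm⟩ := exists_conj_div_eq (q := q) (e := σ l) (by rw [conj_conj, mul_comm, h])
  have e : l * σ m = m := by rw [hm, ← mul_assoc, h, one_mul]
  have k : ∀ c, l * σ c = c → ∃ κ, σ κ = κ ∧ c = m * κ := fun c hc =>
    ⟨c / m, by
      rw [map_div₀, div_eq_div_iff (conj_ne_zero.2 m0) m0]
      linear_combination -(σ c) * e + σ m * hc, by field_simp⟩
  refine ⟨m, m0, fun c => ⟨k c, ?_⟩, fun c hc => ?_⟩
  · rintro ⟨κ, hκ, rfl⟩
    rw [map_mul, hκ, ← mul_assoc, e]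
  · obtain ⟨κ, hκ, rfl⟩ := k c hc
    obtain ⟨t, rfl⟩ := exists_trace_eq hκ
    exact ⟨m * t, by rw [map_mul, ← mul_assoc, e, mul_add]⟩

/-- Semilinearity on `F` from the norm: rescale by `A 1` and use `UH.semilinear_aux`. -/
theorem semilin (A : F → F) (hA : ∀ x y, A (x + y) = A x + A y) (B : F → F)
    (hB : ∀ a b, σ a = a → σ b = b → B (a + b) = B a + B b)
    (hB0 : ∀ a, σ a = a → B a = 0 → a = 0) (h : ∀ c, A c * σ (A c) = B (c * σ c)) :
    ∃ (l : Fˣ) (φ : F ≃+* F), (∀ c, A c = l * φ c) ∧ ∀ a, σ a = a → B a = l * σ l * φ a := by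
  have := UF.finite (F := F) q
  have l0 : A 1 ≠ 0 := fun e => by
    have := h 1
    rw [e, zero_mul, map_one, one_mul] at this
    exact one_ne_zero (hB0 1 (map_one _) this.symm)
  have s0 : σ (A 1) ≠ 0 := conj_ne_zero.2 l0
  let A' : F →+ F := AddMonoidHom.mk' (fun c => A c / A 1) fun x y => by rw [hA, add_div]
  have m := UH.semilinear_aux (q := q) A' (fun a => B a / (A 1 * σ (A 1))) (div_self l0)
    (fun a b ha hb => by rw [hB a b ha hb, add_div])
    (fun a ha e => hB0 a ha ((div_eq_zero_iff.1 e).resolve_right (mul_ne_zero l0 s0)))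
    (fun c => by
      change A c / A 1 * σ (A c / A 1) = _
      rw [map_div₀, ← h, div_mul_div_comm])
  let f : F →+* F := { A' with map_one' := div_self l0, map_mul' := m }
  let φ : F ≃+* F := RingEquiv.ofBijective f (Finite.injective_iff_bijective.1 f.injective)
  have e : ∀ c, A c = A 1 * φ c := fun c => (mul_div_cancel₀ (A c) l0).symm
  refine ⟨Units.mk0 _ l0, φ, e, fun a ha => ?_⟩
  obtain ⟨c, rfl⟩ := exists_norm_eq ha
  rw [← h, e c, map_mul, map_mul, UH.map_conj, Units.val_mk0]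
  ring

/-- `Aut F` is cyclic of order `2n` (`UH.exists_frob`), `σ` is its only involution and generates the
automorphisms trivial on `k`. -/
theorem aut_of_fix (φ : F ≃+* F) (h : ∀ a, σ a = a → φ a = a) :
    (∀ x, φ x = x) ∨ ∀ x, φ x = σ x := by
  obtain ⟨l, hl⟩ := exists_conj_ne F q
  have e1 := h (l + σ l) (by rw [map_add, conj_conj, add_comm])
  have e2 := h (l * σ l) (by rw [map_mul, conj_conj, mul_comm])
  rw [map_add] at e1
  rw [map_mul] at e2
  have e : (φ l - l) * (φ l - σ l) = 0 := by linear_combination φ l * e1 - e2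
  refine (mul_eq_zero.1 e).imp (fun e x => ?_) fun e x => ?_ <;>
    obtain ⟨b, c, hb, hc, rfl⟩ := exists_comb hl x
  · rw [map_add, map_mul, h b hb, h c hc, sub_eq_zero.1 e]
  · rw [map_add, map_mul, h b hb, h c hc, sub_eq_zero.1 e, map_add, map_mul, hb, hc]

theorem aut_of_sq (φ : F ≃+* F) (h : ∀ x, φ (φ x) = x) : (∀ x, φ x = x) ∨ ∀ x, φ x = σ x := by
  have := UF.finite (F := F) q
  obtain ⟨n, n0, hn⟩ := UH.exists_pow_eq F q 2
  obtain ⟨-, ψ, h1, h2, h3⟩ := UH.exists_frob (F := F) (m := 2 * n) (by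
    rw [UF.card_eq (q := q), hn, ← pow_mul, mul_comm])
  obtain ⟨i, hi, rfl⟩ := h3 φ
  have e : ∀ (i : ℕ) (x : F), (ψ ^ i) x = x ^ 2 ^ i := fun i => by
    induction i with
    | zero => simp
    | succ i ih => intro x; rw [pow_succ, RingAut.mul_apply, ih, h1, ← pow_mul, ← pow_succ']
  have d : orderOf ψ ∣ 2 * i := orderOf_dvd_of_pow_eq_one (by
    rw [two_mul, pow_add]; exact RingEquiv.ext h)
  rw [h2] at d
  obtain ⟨k, rfl⟩ := Nat.dvd_of_mul_dvd_mul_left two_pos d
  have : k < 2 := by nlinarith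
  interval_cases k
  · exact .inl fun x => by simp
  · exact .inr fun x => by rw [e, conj_apply, hn, mul_one]

/-- a nontrivial automorphism of 2-power order has `σ` as a power -/
theorem aut_two (φ : F ≃+* F) {j : ℕ} (h : φ ^ 2 ^ j = 1) :
    φ = 1 ∨ ∃ i : ℕ, ∀ x, (φ ^ i) x = σ x := by
  induction j generalizing φ with
  | zero => exact .inl (by simpa using h)
  | succ j ih =>
    rw [pow_succ', pow_mul] at h
    rcases ih _ h with e | ⟨i, e⟩
    · exact (aut_of_sq (q := q) φ fun x => by rw [← RingAut.mul_apply, ← sq, e]; rfl).imp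
        RingEquiv.ext fun e => ⟨1, by simpa using e⟩
    · exact .inr ⟨2 * i, by rwa [pow_mul]⟩

theorem isCyclic_aut [Finite F] : IsCyclic (F ≃+* F) := by
  have := Fintype.ofFinite F
  obtain ⟨n, -, hn⟩ := FiniteField.card F 2
  obtain ⟨-, ψ, -, -, h3⟩ := UH.exists_frob (F := F) (Nat.card_eq_fintype_card.trans hn)
  exact ⟨ψ, fun φ => by obtain ⟨i, -, rfl⟩ := h3 φ; exact ⟨i, zpow_natCast _ _⟩⟩

/-- `|Aut F| = 2n ≤ 2ⁿ = q` -/
theorem card_aut_le : Nat.card (F ≃+* F) ≤ q := by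
  have := UF.finite (F := F) q
  obtain ⟨n, n0, hn⟩ := UH.exists_pow_eq F q 2
  rw [(UH.exists_frob (F := F) (m := 2 * n) (by
    rw [UF.card_eq (q := q), hn, ← pow_mul, mul_comm])).1, hn]
  exact Nat.mul_le_pow (by norm_num) n

/-- a unit of 2-power order is trivial -/
theorem eq_one_of_pow {l : F} {j : ℕ} (h : l ^ 2 ^ j = 1) : l = 1 := by
  have := Fact.mk Nat.prime_two
  have e := sub_pow_char_pow l 1 (p := 2) (n := j)
  rw [h, one_pow, sub_self] at e
  exact sub_eq_zero.1 (pow_eq_zero_iff (by positivity) |>.1 e)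

end Cfsg.Agent.U3S
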