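import Mathlib
import Cfsg.Agent.U3S.Defs
import Cfsg.Agent.U3S.Fld
import Cfsg.Agent.U3S.Gen1

/-! Consequences of `UA`: the group `T`, semilinear action of `N(T)`. -/

set_option autoImplicit false
set_option linter.unusedSectionVars false

namespace Cfsg.Agent.U3S

open Subgroup Cfsg.Agent.PLocal.Amb Cfsg.Agent.Gold Cfsg.Agent.Class.U Cfsg.Agent.Inv
open scoped commutatorElement

variable {G : Type*} [Group G] [Finite G] {F : Type*} [Field F] {q : ℕ} [UF F q] [CharP F 2]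
  {D : Dat G F q}

local notation "σ" => conj F q

theorem mem_T {g : G} : g ∈ D.T ↔ ∃ x, D.ι x = g := Iff.rfl

theorem ι_mem (x : UH F q) : D.ι x ∈ D.T := ⟨x, rfl⟩

theorem Z_le_T : D.Z ≤ D.T := inf_le_left

theorem Z_le_C : D.Z ≤ 𝐂[D.T] := inf_le_right

theorem cnj_T (g : G) : (D.cnj g).T = cj(g, D.T) := by
  exact MonoidHom.range_comp _ _

theorem cnj_Z (g : G) : (D.cnj g).Z = cj(g, D.Z) := by
  unfold Dat.Z
  rw [cnj_T, cj_inf, centralizer_cj]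

theorem cnj_J (g x : G) : (D.cnj g).J x ↔ D.J x := by
  constructor
  · rintro ⟨e, he, e1, hc⟩
    obtain ⟨y, hy, rfl⟩ := mem_cj_iff_exists.1 he
    refine ⟨y, hy, fun h => e1 (by simp [h]), IsConj.trans (isConj_iff.2 ⟨g, rfl⟩) hc⟩
  · rintro ⟨e, he, e1, hc⟩
    refine ⟨g * e * g⁻¹, conj_mem_cj g he, fun h => e1 (by simpa using h),
      IsConj.trans (isConj_iff.2 ⟨g, rfl⟩).symm hc⟩

theorem Dat.J.conj {x : G} (h : D.J x) (g : G) : D.J (g * x * g⁻¹) := by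
  obtain ⟨e, he, e1, hc⟩ := h
  exact ⟨e, he, e1, hc.trans (isConj_iff.2 ⟨g, rfl⟩)⟩

theorem Dat.Act.mul {g h : G} {l m : F} {φ ψ : F →+* F} (hg : D.Act g l φ) (hh : D.Act h m ψ) :
    D.Act (g * h) (l * φ m) (φ.comp ψ) := by
  intro x
  obtain ⟨y, hy, hy'⟩ := hh x
  obtain ⟨z, hz, hz'⟩ := hg y
  refine ⟨z, by rw [← hz, ← hy]; group, ?_⟩
  rw [hz', hy', map_mul, RingHom.comp_apply, mul_assoc]

theorem Dat.Act.mem {g : G} {l : F} {φ : F →+* F} (hg : D.Act g l φ) : g ∈ 𝐍[D.T] := by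
  refine mem_normalizer_of_cj_le (cj_le_iff_forall.2 ?_)
  rintro _ ⟨x, rfl⟩
  obtain ⟨y, hy, -⟩ := hg x
  exact ⟨y, hy.symm⟩

theorem C_le_N1 : 𝐂[D.T] ≤ D.N1 := by
  intro g hg
  refine ⟨centralizer_le_normalizer' _ hg, fun x hx => ?_⟩
  rw [← hg x hx]
  simp

theorem N_N1 : 𝐍[D.T] ≤ 𝐍[D.N1] := by
  refine le_normalizer_iff_cj.2 fun g hg => cj_le_iff_forall.2 fun n hn => ⟨?_, fun x hx => ?_⟩
  · exact mul_mem (mul_mem hg hn.1) (inv_mem hg)
  · have := conj_mem_of_mem_normalizer (D.NZ hg) (hn.2 _ (inv_conj_mem_of_mem_normalizer hg hx))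
    rwa [show g * (n * (g⁻¹ * x * g) * n⁻¹ * (g⁻¹ * x * g)⁻¹) * g⁻¹ =
      g * n * g⁻¹ * x * (g * n * g⁻¹)⁻¹ * x⁻¹ by group] at this

theorem bA_cnj_ι (g : G) (x : UH F q) : (D.cnj g).ι x = g * D.ι x * g⁻¹ := rfl

theorem bA_cnj_act {g x : G} {l : F} {φ : F →+* F} :
    (D.cnj g).Act x l φ ↔ D.Act (g⁻¹ * x * g) l φ := by
  refine forall_congr' fun u => exists_congr fun y => and_congr_left' ?_
  rw [bA_cnj_ι, bA_cnj_ι]
  constructor
  · intro h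
    rw [show g⁻¹ * x * g * D.ι u * (g⁻¹ * x * g)⁻¹ = g⁻¹ * (x * (g * D.ι u * g⁻¹) * x⁻¹) * g by group,
      h]
    group
  · intro h
    rw [← h]
    group

theorem bA_cnj_N1 (g : G) : (D.cnj g).N1 = cj(g, D.N1) := by
  ext x
  rw [Dat.mem_N1, mem_cj, Dat.mem_N1, cnj_T, cnj_Z, normalizer_cj, mem_cj]
  refine and_congr_right' ⟨fun h y hy => ?_, fun h y hy => ?_⟩
  · have := mem_cj.1 (h _ (conj_mem_cj g hy))
    rwa [show g⁻¹ * (x * (g * y * g⁻¹) * x⁻¹ * (g * y * g⁻¹)⁻¹) * g =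
      g⁻¹ * x * g * y * (g⁻¹ * x * g)⁻¹ * y⁻¹ by group] at this
  · have := h _ (mem_cj.1 hy)
    rw [mem_cj]
    rwa [show g⁻¹ * x * g * (g⁻¹ * y * g) * (g⁻¹ * x * g)⁻¹ * (g⁻¹ * y * g)⁻¹ =
      g⁻¹ * (x * y * x⁻¹ * y⁻¹) * g by group] at this

theorem bA_cnj_B (g : G) : (D.cnj g).B = cj(g, D.B) := by
  unfold Dat.B
  rw [cnj_T, cj_inf, normalizer_cj]
  rfl

theorem bA_act_one : D.Act 1 1 (RingHom.id F) := fun x => ⟨x, by simp, by simp⟩

theorem bA_act_pow {g : G} {l : F} (h : D.Act g l (RingHom.id F)) (k : ℕ) :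
    D.Act (g ^ k) (l ^ k) (RingHom.id F) := by
  induction k with
  | zero => simpa using bA_act_one
  | succ k ih => simpa [pow_succ] using ih.mul h

theorem bA_act_pow' {g : G} {l : F} {φ : F ≃+* F} (h : D.Act g l φ) (k : ℕ) :
    ∃ m : F, D.Act (g ^ k) m ((φ ^ k : F ≃+* F) : F →+* F) := by
  induction k with
  | zero => exact ⟨1, by rw [pow_zero, pow_zero]; exact bA_act_one⟩
  | succ k ih =>
    obtain ⟨m, hm⟩ := ih
    exact ⟨_, by rw [pow_succ, pow_succ]; exact hm.mul h⟩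

theorem bA_map_conj (φ : F →+* F) (x : F) : φ (σ x) = σ (φ x) := map_pow φ x q

theorem bA_conj_a {x : UH F q} (hx : x.c = 0) : σ x.a = x.a := by
  rw [UH.conj_a, hx, zero_mul, sub_zero, CharTwo.neg_eq]

theorem bA_P2_mul_self {g : G} (h : P2 g) : P2 (g * g) := by
  obtain ⟨k, hk⟩ := h
  exact ⟨k, by rw [← sq, ← pow_mul, mul_comm, pow_mul, hk, one_pow]⟩

theorem bA_P2_pow {g : G} (h : P2 g) (n : ℕ) : P2 (g ^ n) := by
  obtain ⟨k, hk⟩ := h
  exact ⟨k, by rw [← pow_mul, mul_comm, pow_mul, hk, one_pow]⟩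

namespace UA

variable (H : UA D)
include H

/-- transport of all fields along conjugation by `g` -/
theorem cnj (g : G) : UA (D.cnj g) := by
  have eA : (D.cnj g).A = cj(g, D.A) := rfl
  have e0 : (D.cnj g).h0 = g * D.h0 * g⁻¹ := rfl
  have e1 : (D.cnj g).h1 = g * D.h1 * g⁻¹ := rfl
  have ew : (D.cnj g).w = g * D.w * g⁻¹ := rfl
  refine
    { four := H.four
      inj := (MulAut.conj g).injective.comp H.inj
      syl := by rw [cnj_T, eA]; exact H.syl.cj g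
      h0A := conj_mem_cj g H.h0A
      h1A := conj_mem_cj g H.h1A
      wA := conj_mem_cj g H.wA
      act0 := fun x => ?_
      act1 := fun x => ?_
      c01 := ?_
      ord0 := by rw [e0, conj_pow, H.ord0]; simp
      odd1 := by rw [e1, PLocal.Amb.orderOf_conj']; exact H.odd1
      μk := H.μk
      μgen := H.μgen
      lamN := H.lamN
      lam1 := H.lam1
      ti := fun a ha x hx x1 h => ?_
      lin := fun a ha h => ?_
      rig := fun a ha h => ?_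
      cen := fun z hz h => ?_
      gen := fun K h1 h2 => ?_
      wT := ?_
      w0 := ?_
      w1 := ?_
      wN := fun s h1 h2 h3 => ?_ }
  · rw [e0, bA_cnj_ι, bA_cnj_ι]
    change _ = g * D.ι (UH.tor D.μ x) * g⁻¹
    rw [← H.act0]; group
  · rw [e1, bA_cnj_ι, bA_cnj_ι]
    change _ = g * D.ι (UH.tor D.lam x) * g⁻¹
    rw [← H.act1]; group
  · rw [e0, e1, show g * D.h0 * g⁻¹ * (g * D.h1 * g⁻¹) = g * (D.h0 * D.h1) * g⁻¹ by group, H.c01]
    group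
  · rw [cnj_T] at hx h ⊢
    rw [eA] at ha
    rw [normalizer_cj, mem_cj]
    refine H.ti _ (mem_cj.1 ha) _ (mem_cj.1 hx) (fun e => x1 ?_) ?_
    · rw [show x = g * (g⁻¹ * x * g) * g⁻¹ by group, e]; group
    · have := mem_cj.1 h
      rwa [show g⁻¹ * (a * x * a⁻¹) * g = g⁻¹ * a * g * (g⁻¹ * x * g) * (g⁻¹ * a * g)⁻¹ by group]
        at this
  · rw [cnj_T, normalizer_cj, mem_cj] at h
    obtain ⟨l, hl⟩ := H.lin _ (mem_cj.1 ha) h
    exact ⟨l, bA_cnj_act.2 hl⟩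
  · rw [eA, normalizer_cj, mem_cj] at ha
    rw [bA_cnj_N1, mem_cj] at h
    obtain ⟨x, hx, h⟩ := H.rig _ ha h
    refine ⟨g * x * g⁻¹, by rw [cnj_T]; exact conj_mem_cj g hx, fun b hb => ?_⟩
    have := h _ (mem_cj.1 hb)
    rw [show a * b * a⁻¹ = g * (g⁻¹ * a * g * (g⁻¹ * b * g) * (g⁻¹ * a * g)⁻¹) * g⁻¹ by group, this]
    group
  · rw [eA, centralizer_cj, mem_cj] at h
    have := H.cen _ (mem_cj.1 hz) h
    rw [show z = g * (g⁻¹ * z * g) * g⁻¹ by group, conj_pow, this]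
    simp
  · rw [eA] at h1 ⊢
    rw [cnj_T] at h2
    rw [cj_le_iff] at h1 h2 ⊢
    rw [← normalizer_cj] at h1
    exact H.gen _ h1 h2
  · rw [cnj_T, ew, normalizer_cj, conj_mem_cj_iff]
    exact H.wT
  · rw [ew, e0, show g * D.w * g⁻¹ * (g * D.h0 * g⁻¹) * (g * D.w * g⁻¹)⁻¹ =
      g * (D.w * D.h0 * D.w⁻¹) * g⁻¹ by group, H.w0]
    group
  · rw [ew, e1, show g * D.w * g⁻¹ * (g * D.h1 * g⁻¹) = g * (D.w * D.h1) * g⁻¹ by group, H.w1]
    group
  · rw [eA, normalizer_cj, mem_cj] at h1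
    rw [cnj_T, normalizer_cj, mem_cj] at h2
    rw [e0] at h3
    have := H.wN _ h1 h2 (by
      rw [show g⁻¹ * s * g * D.h0 = g⁻¹ * (s * (g * D.h0 * g⁻¹)) * g by group, h3]; group)
    rw [ew, cnj_T, ← cj_mul, show g * D.w * g⁻¹ * g = g * D.w by group, cj_mul, normalizer_cj,
      mem_cj]
    exact this

theorem TA : D.T ≤ D.A := H.syl.le

theorem pT : IsPGroup 2 D.T := H.syl.pgrp

theorem exists_pow : ∃ n, 2 ≤ n ∧ q = 2 ^ n := by
  obtain ⟨k, -, hk⟩ := UH.exists_pow_eq F q 2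
  refine ⟨k, ?_, hk⟩
  have h4 := H.four
  rw [hk] at h4
  exact (Nat.pow_le_pow_iff_right (by norm_num : 1 < 2)).1 h4

theorem ι_mem_Z {x : UH F q} : D.ι x ∈ D.Z ↔ x.c = 0 := by
  rw [← UH.mem_center_iff, Subgroup.mem_center_iff]
  constructor
  · intro h y
    apply H.inj
    rw [map_mul, map_mul]
    exact h.2 _ (ι_mem y)
  · intro h
    refine ⟨ι_mem x, ?_⟩
    rintro _ ⟨y, rfl⟩
    rw [← map_mul, ← map_mul, h y]

theorem mem_Z {g : G} : g ∈ D.Z ↔ ∃ x : UH F q, x.c = 0 ∧ D.ι x = g := by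
  constructor
  · intro h
    obtain ⟨x, rfl⟩ := h.1
    exact ⟨x, H.ι_mem_Z.1 h, rfl⟩
  · rintro ⟨x, hx, rfl⟩
    exact H.ι_mem_Z.2 hx

theorem card_T : Nat.card D.T = q ^ 3 := by
  rw [← UH.card (F := F)]
  exact (Nat.card_congr (MonoidHom.ofInjective H.inj).toEquiv).symm

theorem card_Z : Nat.card D.Z = q := by
  have : D.Z = (center (UH F q)).map D.ι := by
    ext g
    rw [H.mem_Z, mem_map]
    simp only [UH.mem_center_iff]
  rw [this, card_map_of_injective H.inj, UH.card_center]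

theorem sqT {x : G} (hx : x ∈ D.T) : x * x ∈ D.Z := by
  obtain ⟨x, rfl⟩ := hx
  rw [← map_mul]
  exact H.ι_mem_Z.2 (UH.mul_self_c x)

theorem sqZ {z : G} (hz : z ∈ D.Z) : z * z = 1 := by
  obtain ⟨x, hx, rfl⟩ := H.mem_Z.1 hz
  rw [← map_mul, UH.mul_self_eq_one_iff.2 hx, map_one]

theorem invT {x : G} (hx : x ∈ D.T) (h : x * x = 1) : x ∈ D.Z := by
  obtain ⟨x, rfl⟩ := hx
  rw [← map_mul, ← map_one D.ι] at h
  exact H.ι_mem_Z.2 (UH.mul_self_eq_one_iff.1 (H.inj h))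

theorem commT {x y : G} (hx : x ∈ D.T) (hy : y ∈ D.T) : x * y * x⁻¹ * y⁻¹ ∈ D.Z := by
  obtain ⟨x, rfl⟩ := hx
  obtain ⟨y, rfl⟩ := hy
  rw [← map_inv, ← map_inv, ← map_mul, ← map_mul, ← map_mul]
  exact H.ι_mem_Z.2 (UH.commutator_c x y)

theorem T_le_N1 : D.T ≤ D.N1 := by
  exact fun x hx => ⟨le_normalizer hx, fun y hy => H.commT hx hy⟩

theorem not_ab : ¬ D.T ≤ 𝐂[D.T] := by
  intro h
  obtain ⟨x, hx⟩ := UH.exists_c (F := F) (q := q) 1
  exact one_ne_zero (hx.symm.trans (H.ι_mem_Z.1 ⟨ι_mem x, h (ι_mem x)⟩))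

/-- `{c κ | κ ∈ k}` commutes with `x` and its norms cover `k` -/
theorem rtZ {x z : G} (hx : x ∈ D.T) (hz : z ∈ D.Z) : ∃ y ∈ D.T, y * x = x * y ∧ y * y = z := by
  obtain ⟨x, rfl⟩ := hx
  obtain ⟨z, hz0, rfl⟩ := H.mem_Z.1 hz
  have key : ∃ c : F, x.c * σ c = c * σ x.c ∧ c * σ c = z.a := by
    by_cases hc : x.c = 0
    · obtain ⟨c, h⟩ := exists_norm_eq (bA_conj_a hz0)
      exact ⟨c, by simp [hc], h⟩
    · have hc' := (conj_ne_zero (q := q)).2 hc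
      obtain ⟨b, hb, hb'⟩ := exists_sqrt (q := q) (a := z.a / (x.c * σ x.c)) (by
        rw [map_div₀, bA_conj_a hz0, map_mul, conj_conj, mul_comm])
      refine ⟨b * x.c, by rw [map_mul, hb]; ring, ?_⟩
      rw [map_mul, hb, show b * x.c * (b * σ x.c) = b * b * (x.c * σ x.c) by ring, hb']
      field_simp
  obtain ⟨c, h1, h2⟩ := key
  obtain ⟨y, rfl⟩ := UH.exists_c (q := q) c
  refine ⟨D.ι y, ι_mem y, ?_, ?_⟩
  · rw [← map_mul, ← map_mul, (UH.mul_comm_iff y x).2 h1]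
  · rw [← map_mul]
    congr 1
    exact UH.ext (by rw [UH.mul_self_c, hz0]) (by rw [UH.mul_self_a, h2])

/-- for `x ∈ T - Z`, `[x, T] = Z` -/
theorem commZ {x z : G} (hx : x ∈ D.T) (xZ : x ∉ D.Z) (hz : z ∈ D.Z) :
    ∃ y ∈ D.T, y * x * y⁻¹ * x⁻¹ = z := by
  obtain ⟨x, rfl⟩ := hx
  obtain ⟨z, hz0, rfl⟩ := H.mem_Z.1 hz
  have hc : x.c ≠ 0 := fun h => xZ (H.ι_mem_Z.2 h)
  have hc' := (conj_ne_zero (q := q)).2 hc
  obtain ⟨t, ht⟩ := exists_trace_eq (bA_conj_a hz0)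
  obtain ⟨y, hy⟩ := UH.exists_c (q := q) (t / σ x.c)
  refine ⟨D.ι y, ι_mem y, ?_⟩
  rw [← map_inv, ← map_inv, ← map_mul, ← map_mul, ← map_mul]
  congr 1
  refine UH.ext (by rw [UH.commutator_c, hz0]) ?_
  rw [UH.commutator_a, hy, map_div₀, conj_conj, ← ht, CharTwo.sub_eq_add]
  field_simp

/-- an abelian subgroup of `T` has order at most `q²` (it centralizes some `x ∉ Z` or lies in `Z`) -/
theorem card_ab {R : Subgroup G} (h : R ≤ D.T) (ab : R ≤ 𝐂[R]) : Nat.card R ≤ q ^ 2 := by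
  have hq := two_le_q F q
  by_cases hZ : R ≤ D.Z
  · have := card_le_of_le hZ
    rw [H.card_Z] at this
    nlinarith
  obtain ⟨x, hx, xZ⟩ := SetLike.not_le_iff_exists.1 hZ
  obtain ⟨x, rfl⟩ := h hx
  have hc : x.c ≠ 0 := fun h => xZ (H.ι_mem_Z.2 h)
  have hc' := (conj_ne_zero (q := q)).2 hc
  have := (UF.finite (F := F) q)
  set R' := R.comap D.ι with hR'
  have e : Nat.card R = Nat.card R' := by
    rw [← card_map_of_injective H.inj (K := R'), map_comap_eq_self h]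
  let f : R' →* Multiplicative F := UH.cHom.comp R'.subtype
  have h1 : Nat.card f.ker ≤ q := by
    refine le_of_le_of_eq ?_ (UH.card_center (F := F) (q := q))
    refine Nat.card_le_card_of_injective (fun y => ⟨y.1.1, UH.mem_center_iff.2 y.2⟩) ?_
    intro y y' hy
    exact Subtype.ext (Subtype.ext (congrArg (fun z : center (UH F q) => (z : UH F q)) hy))
  have h2 : Nat.card f.range ≤ q := by
    refine le_of_le_of_eq ?_ (card_fixed F q)
    refine Nat.card_le_card_of_injective (fun y => ⟨y.1.toAdd / x.c, ?_⟩) ?_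
    · obtain ⟨_, ⟨y, rfl⟩⟩ := y
      have h3 : y.1 * x = x * y.1 := H.inj (by rw [map_mul, map_mul]; exact ab hx _ y.2)
      rw [UH.mul_comm_iff] at h3
      change σ (y.1.c / x.c) = y.1.c / x.c
      rw [map_div₀, div_eq_div_iff hc' hc]
      linear_combination h3
    · intro y y' hy
      exact Subtype.ext (Multiplicative.toAdd.injective
        ((div_left_inj' hc).1 (congrArg Subtype.val hy)))
  rw [e, ← f.ker.card_mul_index, index_ker, sq]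
  exact Nat.mul_le_mul h1 h2

/-- from `Fld.hyper` applied to the image of `K` in `T̄` -/
theorem hyperT {K : Subgroup G} (h : ∀ x ∈ D.T, ∀ y ∈ D.T, x ∉ K → y ∉ K → x * y ∈ K) {z : G}
    (hz : z ∈ D.Z) : ∃ x ∈ K ⊓ D.T, ∃ y ∈ K ⊓ D.T, x * y * x⁻¹ * y⁻¹ = z := by
  obtain ⟨z, hz0, rfl⟩ := H.mem_Z.1 hz
  let V : AddSubgroup F :=
    { carrier := {c | ∃ x : UH F q, D.ι x ∈ K ∧ x.c = c}
      zero_mem' := ⟨1, by rw [map_one]; exact one_mem _, rfl⟩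
      add_mem' := by
        rintro _ _ ⟨x, hx, rfl⟩ ⟨y, hy, rfl⟩
        exact ⟨x * y, by rw [map_mul]; exact mul_mem hx hy, rfl⟩
      neg_mem' := by
        rintro _ ⟨x, hx, rfl⟩
        exact ⟨x⁻¹, by rw [map_inv]; exact inv_mem hx, rfl⟩ }
  obtain ⟨_, ⟨x, hx, rfl⟩, _, ⟨y, hy, rfl⟩, e⟩ := hyper H.four V (fun c d hc hd => by
    obtain ⟨x, rfl⟩ := UH.exists_c (q := q) c
    obtain ⟨y, rfl⟩ := UH.exists_c (q := q) d
    exact ⟨x * y, by
      rw [map_mul]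
      exact h _ (ι_mem x) _ (ι_mem y) (fun h => hc ⟨x, h, rfl⟩) (fun h => hd ⟨y, h, rfl⟩), rfl⟩)
    (bA_conj_a hz0)
  refine ⟨D.ι x, ⟨hx, ι_mem x⟩, D.ι y, ⟨hy, ι_mem y⟩, ?_⟩
  rw [← map_inv, ← map_inv, ← map_mul, ← map_mul, ← map_mul]
  congr 1
  exact UH.ext (by rw [UH.commutator_c, hz0]) (by rw [UH.commutator_a, CharTwo.sub_eq_add, e])

/-- `UH.exists_semilinear` -/
theorem exists_act {g : G} (hg : g ∈ 𝐍[D.T]) : ∃ (l : Fˣ) (φ : F ≃+* F), D.Act g l φ := by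
  let e : UH F q ≃* D.T := MonoidHom.ofInjective H.inj
  let α : MulAut (UH F q) := (e.trans (D.T.normalizerMonoidHom ⟨g, hg⟩)).trans e.symm
  obtain ⟨l, φ, h⟩ := UH.exists_semilinear α
  refine ⟨l, φ, fun x => ⟨α x, ?_, h x⟩⟩
  have h1 : ∀ y : D.T, D.ι (e.symm y) = y := fun y => MonoidHom.apply_ofInjective_symm H.inj y
  change _ = D.ι (e.symm _)
  rw [h1]
  rfl

theorem act_uniq {g : G} {l m : F} {φ ψ : F →+* F} (h1 : D.Act g l φ) (h2 : D.Act g m ψ) :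
    l = m ∧ (l ≠ 0 → φ = ψ) := by
  have key : ∀ c, l * φ c = m * ψ c := fun c => by
    obtain ⟨x, rfl⟩ := UH.exists_c (q := q) c
    obtain ⟨y, hy, hy'⟩ := h1 x
    obtain ⟨z, hz, hz'⟩ := h2 x
    rw [← hy', ← hz', H.inj (hy.symm.trans hz)]
  obtain rfl : l = m := by simpa using key 1
  exact ⟨rfl, fun h => RingHom.ext fun c => mul_left_cancel₀ h (key c)⟩

theorem mem_N1_iff {g : G} : g ∈ D.N1 ↔ D.Act g 1 (RingHom.id F) := by
  constructor
  · intro h x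
    obtain ⟨y, hy⟩ := conj_mem_of_mem_normalizer h.1 (ι_mem x)
    refine ⟨y, hy.symm, ?_⟩
    have := h.2 _ (ι_mem x)
    rw [← hy, ← map_inv, ← map_mul, H.ι_mem_Z, UH.mul_c, UH.inv_c, add_neg_eq_zero] at this
    simpa using this
  · intro h
    refine ⟨h.mem, ?_⟩
    rintro _ ⟨x, rfl⟩
    obtain ⟨y, hy, hy'⟩ := h x
    rw [hy, ← map_inv, ← map_mul, H.ι_mem_Z, UH.mul_c, UH.inv_c, hy']
    simp

/-- action on `Z`, through squares -/
theorem actZ {g : G} {l : F} {φ : F →+* F} (h : D.Act g l φ) (x : UH F q) (hx : x.c = 0) :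
    ∃ y, g * D.ι x * g⁻¹ = D.ι y ∧ y.c = 0 ∧ y.a = l * σ l * φ x.a := by
  obtain ⟨c, hc⟩ := exists_norm_eq (bA_conj_a hx)
  obtain ⟨s, rfl⟩ := UH.exists_c (q := q) c
  have e : x = s * s := UH.ext (by rw [UH.mul_self_c, hx]) (by rw [UH.mul_self_a, hc])
  obtain ⟨y, hy, hy'⟩ := h s
  refine ⟨y * y, ?_, UH.mul_self_c y, ?_⟩
  · rw [e, map_mul, map_mul, ← hy]; group
  · rw [UH.mul_self_a, hy', ← hc, map_mul, map_mul, bA_map_conj]; ring

theorem N1_le_CZ : D.N1 ≤ 𝐂[D.Z] := by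
  intro g hg z hz
  obtain ⟨x, hx, rfl⟩ := H.mem_Z.1 hz
  obtain ⟨y, h1, h2, h3⟩ := H.actZ (H.mem_N1_iff.1 hg) x hx
  obtain rfl : y = x := UH.ext (h2.trans hx.symm) (by simpa using h3)
  exact (mul_inv_eq_iff_eq_mul.1 h1).symm

theorem gam_CZ {g : G} (h : D.Gam g) : g ∈ 𝐂[D.Z] := by
  intro z hz
  obtain ⟨l, hl, h⟩ := h
  obtain ⟨x, hx, rfl⟩ := H.mem_Z.1 hz
  obtain ⟨y, h1, h2, h3⟩ := H.actZ h x hx
  obtain rfl : y = x := UH.ext (h2.trans hx.symm) (by rw [h3, hl, one_mul, bA_conj_a hx])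
  exact (mul_inv_eq_iff_eq_mul.1 h1).symm

theorem not_gam {g : G} (h : g ∈ D.N1) : ¬ D.Gam g := by
  rintro ⟨l, -, h'⟩
  exact conj_ne_id F q ((H.act_uniq (H.mem_N1_iff.1 h) h').2 one_ne_zero).symm

theorem gam_mul {g n : G} (h : D.Gam g) (hn : n ∈ D.N1) : D.Gam (g * n) ∧ D.Gam (n * g) := by
  obtain ⟨l, hl, h⟩ := h
  exact ⟨⟨l, hl, by simpa using h.mul (H.mem_N1_iff.1 hn)⟩,
    ⟨l, hl, by simpa using (H.mem_N1_iff.1 hn).mul h⟩⟩

theorem two_lin {g : G} {l : F} (h2 : P2 g) (h : D.Act g l (RingHom.id F)) : g ∈ D.N1 := by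
  obtain ⟨k, hk⟩ := h2
  have h3 := bA_act_pow h (2 ^ k)
  rw [hk] at h3
  obtain rfl := eq_one_of_pow (H.act_uniq h3 bA_act_one).1
  exact H.mem_N1_iff.2 h

theorem gam_gam {g g' : G} (h : D.Gam g) (h' : D.Gam g') (h2 : P2 (g * g')) : g * g' ∈ D.N1 := by
  obtain ⟨l, -, h⟩ := h
  obtain ⟨l', -, h'⟩ := h'
  have h3 := h.mul h'
  rw [show (σ).comp σ = RingHom.id F from RingHom.ext conj_conj] at h3
  exact H.two_lin h2 h3

/-- `aut_of_fix`; in the case `σ` the square acts linearly by `l σ l` -/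
theorem of_cent {g : G} (h2 : P2 g) (hg : g ∈ 𝐍[D.T]) (h : g ∈ 𝐂[D.Z]) : g ∈ D.N1 ∨ D.Gam g := by
  obtain ⟨l, φ, ha⟩ := H.exists_act hg
  have key : ∀ a, σ a = a → a = l * σ l * φ a := fun a ha' => by
    obtain ⟨y, h1, h2, h3⟩ := H.actZ ha (UH.cen a ha') rfl
    have h4 := h _ (H.ι_mem_Z.2 (show (UH.cen a ha' : UH F q).c = 0 from rfl))
    rw [← h4, mul_inv_cancel_right] at h1
    rw [← H.inj h1] at h3
    exact h3
  have hl : (l : F) * σ l = 1 := by simpa using (key 1 (map_one _)).symm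
  rcases aut_of_fix (q := q) φ (fun a ha' => by
    have := key a ha'
    rw [hl, one_mul] at this
    exact this.symm) with h1 | h1
  · rw [show (φ : F →+* F) = RingHom.id F from RingHom.ext h1] at ha
    exact Or.inl (H.two_lin h2 ha)
  · rw [show (φ : F →+* F) = σ from RingHom.ext h1] at ha
    exact Or.inr ⟨l, hl, ha⟩

theorem of_sq {g : G} (h2 : P2 g) (hg : g ∈ 𝐍[D.T]) (h : g * g ∈ D.N1) : g ∈ D.N1 ∨ D.Gam g := by
  obtain ⟨l, φ, ha⟩ := H.exists_act hg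
  obtain ⟨h3, h4⟩ := H.act_uniq (H.mem_N1_iff.1 h) (ha.mul ha)
  rcases aut_of_sq (q := q) φ (fun x => (RingHom.congr_fun (h4 one_ne_zero) x).symm) with h1 | h1
  · rw [show (φ : F →+* F) = RingHom.id F from RingHom.ext h1] at ha
    exact Or.inl (H.two_lin h2 ha)
  · rw [show (φ : F →+* F) = σ from RingHom.ext h1] at ha h3
    exact Or.inr ⟨l, h3.symm, ha⟩

/-- commuting with `h0` or `h0⁻¹` is the same; `φ μ = μ` so `φ` is trivial on `k` -/
theorem of_h0 {g : G} (h2 : P2 g) (hg : g ∈ 𝐍[D.T]) (h : g * D.h0 = D.h0 * g) :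
    g ∈ D.N1 ∨ D.Gam g := by
  obtain ⟨l, φ, ha⟩ := H.exists_act hg
  have h0 : D.Act D.h0 D.μ (RingHom.id F) := fun x => ⟨_, H.act0 x, rfl⟩
  have h3 := ha.mul h0
  rw [h] at h3
  have h4 : φ D.μ = D.μ := by
    have := (H.act_uniq h3 (h0.mul ha)).1
    rw [RingHom.id_apply, mul_comm (D.μ : F)] at this
    exact mul_left_cancel₀ l.ne_zero this
  refine H.of_sq h2 hg ?_
  have h5 := ha.mul ha
  rcases aut_of_fix (q := q) φ (fun a ha' => by
    rcases eq_or_ne a 0 with rfl | a0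
    · exact map_zero _
    · obtain ⟨n, rfl⟩ := H.μgen a ha' a0
      rw [map_pow, h4]) with h1 | h1
  · rw [show (φ : F →+* F) = RingHom.id F from RingHom.ext h1] at h5
    exact H.two_lin (bA_P2_mul_self h2) h5
  · rw [show (φ : F →+* F) = σ from RingHom.ext h1,
      show (σ).comp σ = RingHom.id F from RingHom.ext conj_conj] at h5
    exact H.two_lin (bA_P2_mul_self h2) h5

/-- the homomorphism `N(T) → Aut F` -/
theorem bA_hom : ∃ Φ : 𝐍[D.T] →* (F ≃+* F), ∀ g : 𝐍[D.T], ∃ l : Fˣ, D.Act g l (Φ g) := by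
  choose l φ hφ using fun g : 𝐍[D.T] => H.exists_act g.2
  refine ⟨MonoidHom.mk' φ fun a b => ?_, fun g => ⟨l g, hφ g⟩⟩
  have := (H.act_uniq (hφ (a * b)) ((hφ a).mul (hφ b))).2 (l (a * b)).ne_zero
  exact RingEquiv.ext fun x => RingHom.congr_fun this x

/-- `g ↦ φ` is a homomorphism `N(T) → Aut F` whose kernel meets `R` in `R ⊓ N1` (`two_lin`) -/
theorem cyc {R : Subgroup G} (hR : IsPGroup 2 R) (h : R ≤ 𝐍[D.T]) :
    (∃ r ∈ R, ∀ x ∈ R, ∃ k : ℕ, x * (r ^ k)⁻¹ ∈ D.N1) ∧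
      Nat.card R ≤ q * Nat.card ↥(R ⊓ D.N1) := by
  obtain ⟨Φ, hΦ⟩ := H.bA_hom
  have := (UF.finite (F := F) q)
  have : Finite (F ≃+* F) := Finite.of_injective _ (DFunLike.coe_injective (F := F ≃+* F))
  have : IsCyclic (F ≃+* F) := by
    obtain ⟨n, -, hn⟩ := H.exists_pow
    obtain ⟨-, φ, -, -, hφ⟩ := UH.exists_frob (F := F) (m := n * 2)
      (by rw [UF.card_eq (q := q), hn, pow_mul])
    exact ⟨φ, fun ψ => by obtain ⟨i, -, rfl⟩ := hφ ψ; exact ⟨i, zpow_natCast φ i⟩⟩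
  let f : R →* (F ≃+* F) := Φ.comp (inclusion h)
  have hk : ∀ x : R, f x = 1 → (x : G) ∈ D.N1 := fun x hx => by
    obtain ⟨l, hl⟩ := hΦ (inclusion h x)
    rw [show Φ (inclusion h x) = 1 from hx] at hl
    exact H.two_lin (isPGroup_iff.1 hR _ x.2) hl
  constructor
  · obtain ⟨⟨_, r, rfl⟩, hr⟩ := IsCyclic.exists_generator (α := f.range)
    refine ⟨r, r.2, fun x hx => ?_⟩
    obtain ⟨k, hk'⟩ := (mem_powers_iff_mem_zpowers.2 (hr ⟨f ⟨x, hx⟩, _, rfl⟩))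
    refine ⟨k, hk (⟨x, hx⟩ * (r ^ k)⁻¹) ?_⟩
    have e : f r ^ k = f ⟨x, hx⟩ := congrArg Subtype.val hk'
    rw [map_mul, map_inv, map_pow, e, mul_inv_cancel]
  · rw [← f.ker.card_mul_index, index_ker, mul_comm]
    refine Nat.mul_le_mul ((card_le_card_group _).trans card_aut_le) ?_
    refine Nat.card_le_card_of_injective (fun y => ⟨y.1.1, y.1.2, hk _ y.2⟩) ?_
    intro y y' hy
    exact Subtype.ext (Subtype.ext (congrArg (fun z : ↥(R ⊓ D.N1) => (z : G)) hy))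

/-- a 2-element outside `N1` has a power of graph type (`aut_two`) -/
theorem exists_gam {g : G} (h2 : P2 g) (hg : g ∈ 𝐍[D.T]) (h : g ∉ D.N1) :
    ∃ k : ℕ, D.Gam (g ^ k) := by
  obtain ⟨l, φ, ha⟩ := H.exists_act hg
  obtain ⟨j, hj⟩ := id h2
  obtain ⟨m, hm⟩ := bA_act_pow' ha (2 ^ j)
  rw [hj] at hm
  have h3 := (H.act_uniq bA_act_one hm).2 one_ne_zero
  rcases aut_two (q := q) φ (j := j) (RingEquiv.ext fun x => (RingHom.congr_fun h3 x).symm) with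
    rfl | ⟨i, hi⟩
  · exact absurd (H.two_lin h2 ha) h
  · obtain ⟨m, hm⟩ := bA_act_pow' ha i
    rw [show ((φ ^ i : F ≃+* F) : F →+* F) = σ from RingHom.ext hi] at hm
    have h4 := hm.mul hm
    rw [show (σ).comp σ = RingHom.id F from RingHom.ext conj_conj] at h4
    have h5 := H.two_lin (bA_P2_mul_self (bA_P2_pow h2 i)) h4
    exact ⟨i, m, (H.act_uniq h4 (H.mem_N1_iff.1 h5)).1, hm⟩

end UA

end Cfsg.Agent.U3S
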