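import Mathlib
import Cfsg.Agent.U3S.BaseA

/-! Consequences of `UA`: the torus elements `h0`, `h1`, elements of graph type. -/

set_option autoImplicit false
set_option linter.unusedSectionVars false

namespace Cfsg.Agent.U3S

open Subgroup Cfsg.Agent.PLocal.Amb Cfsg.Agent.Gold Cfsg.Agent.Class.U Cfsg.Agent.Inv
open scoped commutatorElement


variable {G : Type*} [Group G] [Finite G] {F : Type*} [Field F] {q : ℕ} [UF F q] [CharP F 2]
  {D : Dat G F q}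

local notation "σ" => conj F q


namespace BC

/-- `g` induces `α` on `T` -/
def Ac (D : Dat G F q) (g : G) (α : MulAut (UH F q)) : Prop := ∀ x, g * D.ι x * g⁻¹ = D.ι (α x)

variable {g h : G} {α β : MulAut (UH F q)}

theorem Ac.mul (h1 : Ac D g α) (h2 : Ac D h β) : Ac D (g * h) (α * β) := fun x => by
  rw [MulAut.mul_apply, ← h1, ← h2]
  group

theorem Ac.inv (h1 : Ac D g α) : Ac D g⁻¹ α⁻¹ := fun x => by
  rw [← MulAut.apply_inv_self _ α x, ← h1, MulAut.apply_inv_self]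
  group

theorem Ac.pow (h1 : Ac D g α) (n : ℕ) : Ac D (g ^ n) (α ^ n) := by
  induction n with
  | zero => intro x; simp
  | succ n ih => rw [pow_succ, pow_succ]; exact ih.mul h1

theorem Ac.cent (h1 : Ac D g α) (h2 : ∀ x, α x = x) : g ∈ 𝐂[D.T] := by
  rintro _ ⟨x, rfl⟩
  have := h1 x
  rw [h2, mul_inv_eq_iff_eq_mul] at this
  exact this.symm

theorem exists_ac (H : UA D) (hg : g ∈ 𝐍[D.T]) : ∃ α, Ac D g α := by
  choose f hf using fun x => mem_T.1 (conj_mem_of_mem_normalizer hg (ι_mem x))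
  let φ : UH F q →* UH F q := MonoidHom.mk' f fun x y => H.inj (by
    rw [map_mul, hf, hf, hf, map_mul]
    group)
  have hi : Function.Injective φ := fun x y e => H.inj (by
    have := congrArg D.ι e
    simp only [φ, MonoidHom.mk'_apply, hf] at this
    simpa using this)
  exact ⟨MulEquiv.ofBijective φ (Finite.injective_iff_bijective.1 hi), fun x => (hf x).symm⟩

theorem Ac.c (H : UA D) (h1 : Ac D g α) {l : F} {φ : F →+* F} (h2 : D.Act g l φ) (x : UH F q) :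
    (α x).c = l * φ x.c := by
  obtain ⟨y, e, hy⟩ := h2 x
  rw [H.inj ((h1 x).symm.trans e), hy]

theorem Ac.act (h1 : Ac D g α) {l : F} {φ : F →+* F} (h2 : ∀ x, (α x).c = l * φ x.c) :
    D.Act g l φ := fun x => ⟨_, h1 x, h2 x⟩

theorem Ac.comm (H : UA D) (h1 : Ac D g α) (h2 : Ac D h β) (e : g * h = h * g) (x : UH F q) :
    α (β x) = β (α x) :=
  H.inj (((h1.mul h2) x).symm.trans (e ▸ (h2.mul h1) x))

theorem exists_cAut (H : UA D) (hg : g ∈ D.N1) : ∃ f, Ac D g (UH.cAut f) := by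
  obtain ⟨α, hα⟩ := exists_ac H hg.1
  obtain ⟨f, rfl⟩ := UH.exists_cAut (α := α) fun x => by
    simpa using hα.c H (H.mem_N1_iff.1 hg) x
  exact ⟨f, hα⟩

theorem mu_ne (H : UA D) : (D.μ : F) ≠ 1 := fun e => by
  have := UF.finite (F := F) q
  have : Nontrivial {x : F // x ≠ 0 ∧ σ x = x} :=
    Finite.one_lt_card_iff_nontrivial.1 (by rw [card_fixed_ne_zero]; have := H.four; omega)
  obtain ⟨a, ha⟩ := exists_ne (⟨1, one_ne_zero, map_one _⟩ : {x : F // x ≠ 0 ∧ σ x = x})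
  obtain ⟨n, hn⟩ := H.μgen a a.2.2 a.2.1
  rw [e, one_pow] at hn
  exact ha (Subtype.ext hn)

theorem fix_a {x : UH F q} (hx : x.c = 0) : σ x.a = x.a := by
  rw [UH.conj_a, hx, zero_mul, sub_zero, CharTwo.neg_eq]

theorem fpf (H : UA D) {t : Fˣ} (ht : (t : F) ≠ 1) (h1 : Ac D g (UH.tor t)) {x : G} (hx : x ∈ D.T)
    (h : x⁻¹ * (g * x * g⁻¹) ∈ D.Z) : x ∈ D.Z := by
  obtain ⟨y, rfl⟩ := hx
  rw [h1, ← map_inv, ← map_mul, H.ι_mem_Z, UH.mul_c, UH.inv_c, UH.tor_c] at h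
  exact H.ι_mem_Z.2 (mul_left_cancel₀ (sub_ne_zero.2 ht) (by linear_combination h))

theorem card_c (P : F → Prop) : Nat.card {x : UH F q // P x.c} = Nat.card {c // P c} * q := by
  have := UF.finite (F := F) q
  have := Fintype.ofFinite {c // P c}
  let e : {x : UH F q // P x.c} ≃ Σ c : {c // P c}, {t : F // t + σ t = -(c * σ c)} :=
    { toFun := fun x => ⟨⟨x.1.c, x.2⟩, x.1.a, by linear_combination x.1.h⟩
      invFun := fun p => ⟨⟨p.1, p.2.1, by linear_combination p.2.2⟩, p.1.2⟩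
      left_inv := fun _ => rfl
      right_inv := fun _ => rfl }
  rw [Nat.card_congr e, Nat.card_sigma, Finset.sum_congr rfl fun c _ =>
    card_trace_fiber (by simp [conj_conj, mul_comm]), Finset.sum_const, Finset.card_univ,
    ← Nat.card_eq_fintype_card, smul_eq_mul]

/-- the data for an element of graph type -/
theorem gam (H : UA D) {s : G} (hs : D.Gam s) (s2 : s * s ∈ 𝐂[D.T]) :
    ∃ (l : F) (α : MulAut (UH F q)), l * σ l = 1 ∧ Ac D s α ∧ (∀ x, (α x).c = l * σ x.c) ∧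
      (∀ x, α (α x) = x) ∧ (∀ x, x.c = 0 → α x = x) ∧
      ∀ x, D.ι x ∈ D.T1 s ↔ l * σ x.c = x.c := by
  have hZ := H.gam_CZ hs
  obtain ⟨l, hl, ha⟩ := hs
  obtain ⟨α, hα⟩ := exists_ac H ha.mem
  refine ⟨l, α, hl, hα, hα.c H ha, fun x => H.inj ?_, fun x hx => H.inj ?_, fun x => ?_⟩
  · rw [← MulAut.mul_apply, ← hα.mul hα, ← s2 _ (ι_mem x), mul_inv_cancel_right]
  · rw [← hα, ← hZ _ (H.ι_mem_Z.2 hx), mul_inv_cancel_right]
  · refine (and_iff_right (ι_mem x)).trans ?_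
    rw [hα, ← map_inv, ← map_mul, H.ι_mem_Z, UH.mul_c, UH.inv_c, hα.c H ha, add_neg_eq_zero]

end BC

open BC

namespace UA

variable (H : UA D)
include H

/-- elements of `N1` act as `cAut f` (`UH.exists_cAut`), so `g² ∈ C(T)` -/
theorem sq_N1 {g : G} (h : g ∈ D.N1) : g * g ∈ 𝐂[D.T] := by
  obtain ⟨f, hf⟩ := exists_cAut H h
  exact (hf.mul hf).cent fun x => (UH.cAut f).left_inv x

/-- B12. `φ lam = lam`; if `φ ≠ 1` a power of it is `σ` and `σ lam = lam`, false. So `g ∈ N1` acts as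
`cAut f` with `f (lam c) = f c`, so `f ((lam + 1) c) = 0`. -/
theorem b12 {g : G} (h2 : P2 g) (hg : g ∈ 𝐍[D.T]) (h : g * D.h1 = D.h1 * g) : g ∈ 𝐂[D.T] := by
  by_cases hn : g ∈ D.N1
  · obtain ⟨f, hf⟩ := exists_cAut H hn
    have e : ∀ c, (f (D.lam * c) : F) = f c := fun c => by
      obtain ⟨x, rfl⟩ := UH.exists_c (q := q) c
      have := congrArg UH.a (hf.comm H H.act1 h x)
      rw [UH.cAut_a, UH.tor_a, UH.tor_a, UH.tor_c, UH.cAut_a, H.lamN, one_mul, one_mul] at this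
      exact add_left_cancel this
    refine hf.cent fun x => UH.ext (UH.cAut_c f x) ?_
    have h1 := sub_ne_zero.2 H.lam1
    rw [UH.cAut_a, ← mul_div_cancel₀ x.c h1, sub_mul, map_sub, AddSubgroup.coe_sub, e, one_mul,
      sub_self, add_zero]
  obtain ⟨k, l, hl, ha⟩ := H.exists_gam h2 hg hn
  obtain ⟨α, hα⟩ := exists_ac H ha.mem
  obtain ⟨x, hx⟩ := UH.exists_c (F := F) (q := q) 1
  have := congrArg UH.c (hα.comm H H.act1 (Commute.pow_left h k) x)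
  rw [hα.c H ha, UH.tor_c, UH.tor_c, hα.c H ha, hx, mul_one, map_one, mul_one, mul_comm] at this
  exact absurd (mul_right_cancel₀ (left_ne_zero_of_mul_eq_one hl) this)
    (conj_ne_of_norm H.lamN H.lam1)

/-- `g ∈ N1` acts as `cAut f`; with `m = orderOf h1` (odd) the product of the `h1^i g h1^(-i)`,
`i < m`, acts as `cAut (f (Σ lam^(-i) c)) = 1`, and it lies in `g^m K`. Use `sq_N1`. -/
theorem n1_le {K : Subgroup G} {g : G} (hg : g ∈ D.N1) (nK : g ∈ 𝐍[K])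
    (h : ∀ i : ℕ, g⁻¹ * (D.h1 ^ i * g * (D.h1 ^ i)⁻¹) ∈ K) :
    ∃ c ∈ 𝐂[D.T], ∃ k ∈ K, g = c * k := by
  obtain ⟨f, hf⟩ := exists_cAut H hg
  have h1 : ∀ i : ℕ, Ac D (D.h1 ^ i) (UH.tor (D.lam ^ i)) := fun i =>
    map_pow (UH.tor (F := F) (q := q)) D.lam i ▸ Ac.pow H.act1 i
  let P : F → Prop := fun u => ∃ k ∈ K, ∃ α, Ac D k α ∧
    ∀ x, (α x).c = x.c ∧ (α x).a = x.a + f (u * x.c)
  have key : P (∑ i ∈ Finset.range (orderOf D.h1), (1 + ((D.lam⁻¹ : Fˣ) : F) ^ i)) := by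
    refine Finset.sum_induction _ P ?_ ⟨1, one_mem _, 1, fun x => by simp, fun x => by simp⟩ ?_
    · rintro u v ⟨k, hk, α, hα, e⟩ ⟨k', hk', β, hβ, e'⟩
      refine ⟨_, mul_mem hk hk', _, hα.mul hβ, fun x => ?_⟩
      rw [MulAut.mul_apply, (e _).1, (e _).2, (e' _).1, (e' _).2, add_mul, map_add,
        AddSubgroup.coe_add]
      exact ⟨rfl, by ring⟩
    · intro i _
      refine ⟨_, h i, _, hf.inv.mul (((h1 i).mul hf).mul (h1 i).inv), fun x => ?_⟩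
      have e1 : ((D.lam ^ i : Fˣ) : F) * σ (D.lam ^ i : Fˣ) = 1 := by
        rw [Units.val_pow_eq_pow_val, map_pow, ← mul_pow, H.lamN, one_pow]
      obtain ⟨y, rfl⟩ := (UH.tor (q := q) (D.lam ^ i)).surjective x
      rw [show (UH.cAut f)⁻¹ = UH.cAut f from rfl]
      simp only [MulAut.mul_apply, MulAut.inv_apply_self, UH.cAut_c, UH.cAut_a, UH.tor_c, UH.tor_a,
        e1, one_mul, add_mul, map_add, AddSubgroup.coe_add, true_and]
      rw [← mul_assoc, ← Units.val_pow_eq_pow_val, ← Units.val_mul, inv_pow, inv_mul_cancel,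
        Units.val_one, one_mul]
      ring
  have e1 : ((D.lam⁻¹ : Fˣ) : F) ^ orderOf D.h1 = 1 := by
    obtain ⟨x, hx⟩ := UH.exists_c (F := F) (q := q) 1
    have := h1 (orderOf D.h1) x
    rw [pow_orderOf_eq_one, one_mul, inv_one, mul_one] at this
    have := congrArg UH.c (H.inj this)
    rw [UH.tor_c, hx, mul_one] at this
    rw [← Units.val_pow_eq_pow_val, inv_pow, Units.val_eq_one.1 this.symm, inv_one, Units.val_one]
  have e2 : ((D.lam⁻¹ : Fˣ) : F) ≠ 1 := fun e => H.lam1 (by simpa using e)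
  rw [Finset.sum_add_distrib, geom_sum_eq e2, e1, sub_self, zero_div, add_zero, Finset.sum_const,
    Finset.card_range, nsmul_one, CharTwo.natCast_eq_ite, if_neg (Nat.not_even_iff_odd.2 H.odd1)]
    at key
  obtain ⟨k, hk, α, hα, e⟩ := key
  refine ⟨g * k⁻¹, (hf.mul hα.inv).cent fun x => ?_, k, hk, by group⟩
  obtain ⟨y, rfl⟩ := α.surjective x
  rw [MulAut.mul_apply, MulAut.inv_apply_self]
  exact UH.ext (by rw [UH.cAut_c, (e y).1]) (by rw [UH.cAut_a, (e y).2, one_mul])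

theorem h0N : D.h0 ∈ 𝐍[D.T] := by
  exact (Ac.act (φ := RingHom.id F) H.act0 fun _ => rfl).mem

theorem h1N : D.h1 ∈ 𝐍[D.T] := by
  exact (Ac.act (φ := RingHom.id F) H.act1 fun _ => rfl).mem

theorem odd0 : Odd (orderOf D.h0) := by
  obtain ⟨n, hn, e⟩ := H.exists_pow
  refine Odd.of_dvd_nat ?_ (orderOf_dvd_of_pow_eq_one H.ord0)
  exact Nat.Even.sub_odd (by have := H.four; omega)
    (e ▸ (Nat.even_pow' (by omega)).2 even_two) odd_one

theorem fpf0 {x : G} (hx : x ∈ D.T) (h : D.h0 * x = x * D.h0) : x = 1 := by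
  have hz := fpf H (mu_ne H) H.act0 hx (by rw [h]; simp)
  obtain ⟨y, rfl⟩ := hx
  have e := H.act0 y
  rw [h, mul_inv_cancel_right] at e
  have := congrArg UH.a (H.inj e)
  rw [UH.tor_a, H.μk] at this
  have h1 : (D.μ : F) * D.μ - 1 ≠ 0 := fun e' => mu_ne H (eq_one_of_pow (j := 1) (by
    linear_combination e'))
  rw [show y = 1 from UH.ext (H.ι_mem_Z.1 hz) (mul_left_cancel₀ h1 (by
    rw [UH.one_a]; linear_combination -this)), map_one]

theorem fpf0' {x : G} (hx : x ∈ D.T) (h : x⁻¹ * (D.h0 * x * D.h0⁻¹) ∈ D.Z) : x ∈ D.Z := by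
  exact fpf H (mu_ne H) H.act0 hx h

theorem Z_h1 : D.Z ≤ 𝐜[D.h1] := by
  intro z hz
  obtain ⟨y, hy, rfl⟩ := H.mem_Z.1 hz
  have e := H.act1 y
  rw [show UH.tor D.lam y = y from UH.ext (by rw [UH.tor_c, hy, mul_zero])
    (by rw [UH.tor_a, H.lamN, one_mul]), mul_inv_eq_iff_eq_mul] at e
  exact mem_centralizer_singleton_iff.2 e.symm

theorem fpf1 {x : G} (hx : x ∈ D.T) (h : x⁻¹ * (D.h1 * x * D.h1⁻¹) ∈ D.Z) : x ∈ D.Z := by
  exact fpf H H.lam1 H.act1 hx h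

/-- `T = [T, h1]`: the commutators cover `T̄`, their squares cover `Z` -/
theorem T_le_of_h1 {K : Subgroup G} (h : ∀ x ∈ D.T, x * D.h1 * x⁻¹ * D.h1⁻¹ ∈ K) : D.T ≤ K := by
  have h1 : ∀ c : F, ∃ u : UH F q, u.c = c ∧ D.ι u ∈ K := fun c => by
    obtain ⟨y, hy⟩ := UH.exists_c (q := q) (c / (1 - D.lam))
    refine ⟨y * UH.tor D.lam y⁻¹, ?_, ?_⟩
    · have := sub_ne_zero.2 H.lam1.symm
      rw [UH.mul_c, UH.tor_c, UH.inv_c, hy]
      field_simp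
      ring
    · rw [map_mul, ← H.act1, map_inv, ← mul_assoc, ← mul_assoc]
      exact h _ (ι_mem y)
  rintro _ ⟨x, rfl⟩
  obtain ⟨u, hu, hK⟩ := h1 x.c
  have h0 : (u⁻¹ * x).c = 0 := by simp [hu]
  obtain ⟨c, hc⟩ := exists_norm_eq (fix_a h0)
  obtain ⟨v, hv, hK'⟩ := h1 c
  have e : u⁻¹ * x = v * v := UH.ext (by rw [h0, UH.mul_self_c]) (by rw [UH.mul_self_a, hv, hc])
  rw [← mul_inv_cancel_left u x, e, map_mul, map_mul]
  exact mul_mem hK (mul_mem hK' hK')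

theorem trZ {a b : G} (ha : a ∈ D.Z) (hb : b ∈ D.Z) (a1 : a ≠ 1) (b1 : b ≠ 1) :
    ∃ k : ℕ, D.h0 ^ k * a * (D.h0 ^ k)⁻¹ = b := by
  obtain ⟨x, hx, rfl⟩ := H.mem_Z.1 ha
  obtain ⟨y, hy, rfl⟩ := H.mem_Z.1 hb
  have x0 : x.a ≠ 0 := fun e => a1 (by rw [show x = 1 from UH.ext hx e, map_one])
  have y0 : y.a ≠ 0 := fun e => b1 (by rw [show y = 1 from UH.ext hy e, map_one])
  obtain ⟨n, hn⟩ := gen_sq H.μgen (y.a / x.a) (by rw [map_div₀, fix_a hx, fix_a hy])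
    (div_ne_zero y0 x0)
  refine ⟨n, (Ac.pow H.act0 n x).trans (congrArg _ ?_)⟩
  rw [← map_pow]
  refine UH.ext (by rw [UH.tor_c, hx, hy, mul_zero]) ?_
  rw [UH.tor_a, Units.val_pow_eq_pow_val, map_pow, H.μk, ← mul_pow, ← hn, div_mul_cancel₀ _ x0]

/-- an `h0`-invariant subgroup meeting `Z` contains it -/
theorem Z_le {K : Subgroup G} (h : D.h0 ∈ 𝐍[K]) {z : G} (hz : z ∈ D.Z) (z1 : z ≠ 1) (zK : z ∈ K) :
    D.Z ≤ K := by
  intro b hb
  rcases eq_or_ne b 1 with rfl | b1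
  · exact one_mem _
  obtain ⟨k, rfl⟩ := H.trZ hz hb z1 b1
  exact conj_mem_of_mem_normalizer (pow_mem h k) zK

/-- `b h0 b⁻¹` acts on `T̄` as `φ μ = μ^k` -/
theorem nrm0 {b : G} (hb : b ∈ 𝐍[D.T]) : ∃ k : ℕ, (D.μ : F) ^ k ≠ 1 ∧
    b * D.h0 * b⁻¹ * (D.h0 ^ k)⁻¹ ∈ D.N1 := by
  obtain ⟨l, φ, ha⟩ := H.exists_act hb
  obtain ⟨β, hβ⟩ := exists_ac H hb
  obtain ⟨k, hk⟩ := H.μgen (φ D.μ) (by rw [← UH.map_conj, H.μk]) (by simp)
  refine ⟨k, fun e => mu_ne H (by simpa [e] using hk), H.mem_N1_iff.2 ?_⟩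
  refine (((hβ.mul H.act0).mul hβ.inv).mul (Ac.pow H.act0 k).inv).act fun x => ?_
  obtain ⟨y, rfl⟩ := (UH.tor (q := q) D.μ ^ k).surjective x
  obtain ⟨w, rfl⟩ := β.surjective y
  simp only [MulAut.mul_apply, MulAut.inv_apply_self]
  rw [← map_pow, hβ.c H ha, UH.tor_c, RingHom.id_apply, UH.tor_c, hβ.c H ha, map_mul,
    Units.val_pow_eq_pow_val, ← hk, RingHom.coe_coe]
  ring

section Gam

variable {s : G} (hs : D.Gam s) (s2 : s * s ∈ 𝐂[D.T])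
include hs s2

/-- Every `x ∈ T1 s` is `u u^s z` (`exists_line`), and `(u u^s)^s = u^s u` is the inverse of `u u^s`
because `u² = (u^s)²` is a central involution or 1. -/
theorem gam_inv {x : G} (hx : x ∈ D.T1 s) : s * x * s⁻¹ = x⁻¹ := by
  obtain ⟨l, α, hl, hα, hc, h2, hz, hT⟩ := gam H hs s2
  obtain ⟨y, rfl⟩ := hx.1
  obtain ⟨-, -, -, h3⟩ := exists_line hl
  obtain ⟨d, hd⟩ := h3 _ ((hT y).1 hx)
  obtain ⟨u, hu⟩ := UH.exists_c (q := q) d
  have h0 : ((u * α u)⁻¹ * y).c = 0 := by simp [hc, hu, hd]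
  rw [hα, ← map_inv, ← mul_inv_cancel_left (u * α u) y]
  generalize (u * α u)⁻¹ * y = z at h0
  refine congrArg _ (eq_inv_of_mul_eq_one_left ?_)
  have e2 : (2 : F) = 0 := CharTwo.two_eq_zero
  rw [map_mul, map_mul, h2, hz z h0]
  ext
  · simp only [UH.mul_c, UH.one_c, h0]
    linear_combination (u.c + (α u).c) * e2
  · simp only [UH.mul_c, UH.mul_a, UH.one_a, h0, hc, map_add, map_mul, conj_conj, map_zero]
    linear_combination (u.a + (α u).a + z.a - u.c * σ u.c - u.c * (σ l * u.c) -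
      l * σ u.c * σ u.c) * e2 - u.c * σ u.c * hl

theorem gam_cent {x : G} (hx : x ∈ D.T) (h : s * x = x * s) : x ∈ D.Z := by
  have e := H.gam_inv hs s2 (x := x) ⟨hx, by rw [h]; simp⟩
  rw [h, mul_inv_cancel_right] at e
  exact H.invT hx (mul_eq_one_iff_eq_inv.2 e)

theorem gam_rt {z : G} (hz : z ∈ D.Z) : ∃ x ∈ D.T1 s, x * x = z := by
  obtain ⟨l, α, hl, -, -, -, -, hT⟩ := gam H hs s2
  obtain ⟨y, hy, rfl⟩ := H.mem_Z.1 hz
  obtain ⟨m, m0, h1, -⟩ := exists_line hl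
  have h0 : m * σ m ≠ 0 := mul_ne_zero m0 (conj_ne_zero.2 m0)
  obtain ⟨κ, hκ, e⟩ := exists_sqrt (q := q) (a := y.a / (m * σ m))
    (by rw [map_div₀, fix_a hy, map_mul, conj_conj, mul_comm])
  obtain ⟨x, hx⟩ := UH.exists_c (q := q) (m * κ)
  refine ⟨_, (hT x).2 ((h1 _).2 ⟨κ, hκ, hx⟩), ?_⟩
  rw [← map_mul]
  refine congrArg _ (UH.ext (by rw [UH.mul_self_c, hy]) ?_)
  rw [UH.mul_self_a, hx, map_mul, hκ, ← div_mul_cancel₀ y.a h0, ← e]
  ring

theorem gam_T1 {x : G} (hx : x ∈ D.T) (h : s * x * s⁻¹ * x ∈ D.Z) : x ∈ D.T1 s := by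
  obtain ⟨l, α, -, hα, hc, -, -, hT⟩ := gam H hs s2
  obtain ⟨y, rfl⟩ := hx
  rw [hα, ← map_mul, H.ι_mem_Z, UH.mul_c, hc] at h
  exact (hT y).2 (CharTwo.add_eq_zero.1 h)

/-- first match the image in `T̄`, then use `gam_rt` -/
theorem gam_cls {x : G} (hx : x ∈ D.T1 s) : ∃ y ∈ D.T, y * s * y⁻¹ = s * x := by
  obtain ⟨l, α, hl, hα, hc, -, -, hT⟩ := gam H hs s2
  obtain ⟨y, rfl⟩ := hx.1
  obtain ⟨-, -, -, h3⟩ := exists_line hl
  obtain ⟨d, hd⟩ := h3 _ ((hT y).1 hx)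
  obtain ⟨u, hu⟩ := UH.exists_c (q := q) d
  have h0 : D.ι (y⁻¹ * α u * u⁻¹) ∈ D.Z := H.ι_mem_Z.2 (by
    simp only [UH.mul_c, UH.inv_c, hc, hu, hd, CharTwo.neg_eq]
    linear_combination (d + l * σ d) * (CharTwo.two_eq_zero : (2 : F) = 0))
  obtain ⟨w, hw, e⟩ := H.gam_rt hs s2 h0
  have e1 := H.gam_inv hs s2 hw
  have e2 : D.ι u * (w * w) = w * w * D.ι u := Z_le_C (e ▸ h0) _ (ι_mem u)
  have e3 : D.ι u * (s * s) = s * s * D.ι u := s2 _ (ι_mem u)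
  rw [map_mul, map_mul, map_inv, map_inv, ← hα] at e
  refine ⟨D.ι u * w, mul_mem (ι_mem u) hw.1, ?_⟩
  have e4 : w * s = s * w⁻¹ := by
    rw [eq_mul_inv_iff_mul_eq, mul_assoc, mul_inv_eq_iff_eq_mul.1 e1, mul_inv_cancel_left]
  have e5 : D.ι u * s = s * (s * D.ι u * s⁻¹) := by
    rw [← mul_assoc, ← mul_assoc, ← e3]
    group
  calc D.ι u * w * s * (D.ι u * w)⁻¹ = D.ι u * (w * s) * w⁻¹ * (D.ι u)⁻¹ := by group
    _ = D.ι u * s * (D.ι u * (w * w))⁻¹ := by rw [e4]; group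
    _ = _ := by rw [e2, e5, e]; group

theorem gam_ab {x y : G} (hx : x ∈ D.T1 s) (hy : y ∈ D.T1 s) : x * y = y * x := by
  obtain ⟨l, α, hl, -, -, -, -, hT⟩ := gam H hs s2
  obtain ⟨u, rfl⟩ := hx.1
  obtain ⟨v, rfl⟩ := hy.1
  obtain ⟨m, -, h1, -⟩ := exists_line hl
  obtain ⟨κ, hκ, e⟩ := (h1 _).1 ((hT u).1 hx)
  obtain ⟨κ', hκ', e'⟩ := (h1 _).1 ((hT v).1 hy)
  rw [← map_mul, ← map_mul, (UH.mul_comm_iff u v).2 (by
    rw [e, e', map_mul, map_mul, hκ, hκ']; ring)]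

theorem gam_card : (D.T1 s).ncard = q ^ 2 := by
  obtain ⟨l, α, hl, -, -, -, -, hT⟩ := gam H hs s2
  obtain ⟨m, m0, h1, -⟩ := exists_line hl
  have e : D.T1 s = D.ι '' {x | l * σ x.c = x.c} := Set.ext fun x =>
    ⟨fun hx => by
      obtain ⟨y, rfl⟩ := hx.1
      exact ⟨y, (hT y).1 hx, rfl⟩, by
      rintro ⟨y, hy, rfl⟩
      exact (hT y).2 hy⟩
  rw [e, Set.ncard_image_of_injective _ H.inj, sq]
  refine (card_c (q := q) fun c => l * σ c = c).trans (congrArg (· * q) ?_)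
  refine Eq.trans ?_ (card_fixed F q)
  refine (Nat.card_eq_of_bijective (fun κ => ⟨m * κ.1, (h1 _).2 ⟨κ.1, κ.2, rfl⟩⟩)
    ⟨fun κ κ' e => Subtype.ext (mul_left_cancel₀ m0 (congrArg Subtype.val e)), fun c => ?_⟩).symm
  obtain ⟨κ, hκ, e⟩ := (h1 _).1 c.2
  exact ⟨⟨κ, hκ⟩, Subtype.ext e.symm⟩

end Gam

end UA

end Cfsg.Agent.U3S
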