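import Mathlib
import Cfsg.Agent.U3S.BaseC

/-! Consequences of `UA`: TI property, the opposite group `Zm`, the final contradiction `fin`. -/

set_option autoImplicit false
set_option linter.unusedSectionVars false

namespace Cfsg.Agent.U3S

open Subgroup Cfsg.Agent.PLocal.Amb Cfsg.Agent.Gold Cfsg.Agent.Class.U Cfsg.Agent.Inv
open scoped commutatorElement

variable {G : Type*} [Group G] [Finite G] {F : Type*} [Field F] {q : ℕ} [UF F q] [CharP F 2]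
  {D : Dat G F q}

local notation "σ" => conj F q

namespace UA

variable (H : UA D)
include H

/-- `R ≤ T^g` with `g ∈ A`, and `z^(g⁻¹) ∈ T`, so `g ∈ N(T)` -/
theorem ti2 {R : Subgroup G} (hR : IsPGroup 2 R) (RA : R ≤ D.A) {z : G} (hz : z ∈ D.T) (z1 : z ≠ 1)
    (zR : z ∈ R) : R ≤ D.T := by
  obtain ⟨g, hg, h⟩ := H.syl.exists_cj_le hR RA
  have n := H.ti g hg z hz z1 (h (conj_mem_cj g zR))
  rw [cj_le_iff, cj_of_mem_normalizer (inv_mem n)] at h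
  exact h

/-- `T^g` is a 2-subgroup of `A` containing `z^g`; `ti2` -/
theorem tiN {g z : G} (hg : g ∈ 𝐍[D.A]) (hz : z ∈ D.T) (z1 : z ≠ 1) (h : g * z * g⁻¹ ∈ D.T) :
    g ∈ 𝐍[D.T] := by
  refine mem_normalizer_of_cj_le (H.ti2 (isPGroup_cj g H.pT) (cj_le_of_mem_normalizer H.TA hg) h
    (fun e => z1 ?_) (conj_mem_cj g hz))
  rw [show z = g⁻¹ * (g * z * g⁻¹) * g by group, e]
  group

theorem invA {a : G} (ha : a ∈ D.A) (a2 : a * a = 1) : ∃ g ∈ D.A, g * a * g⁻¹ ∈ D.Z := by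
  obtain ⟨g, hg, h⟩ := H.syl.exists_cj_le (R := zpowers a)
    (isPGroup_zpowers ⟨1, by rw [pow_one, sq, a2]⟩) (zpowers_le.2 ha)
  refine ⟨g, hg, H.invT (h (conj_mem_cj g (mem_zpowers a))) ?_⟩
  rw [show g * a * g⁻¹ * (g * a * g⁻¹) = g * (a * a) * g⁻¹ by group, a2]
  group

theorem odd_cen {z : G} (hz : z ∈ D.A) (h : z ∈ 𝐂[D.A]) (h2 : P2 z) : z = 1 := by
  obtain ⟨k, hk⟩ := h2
  obtain ⟨n, hn, hq⟩ := H.exists_pow
  have h1 := H.cen z hz h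
  have c : Nat.Coprime (q + 1) (2 ^ k) := by
    refine Nat.Coprime.pow_right _ ((Nat.coprime_two_right).2 ?_)
    rw [hq]
    exact (Nat.even_pow.2 ⟨even_two, by omega⟩).add_one
  exact orderOf_eq_one_iff.1 (Nat.eq_one_of_dvd_coprimes c (orderOf_dvd_of_pow_eq_one h1)
    (orderOf_dvd_of_pow_eq_one hk))

/-- `rig`, then the element of `T` is central in `T` -/
theorem rigC {g : G} (hg : g ∈ 𝐍[D.A]) (h : g ∈ 𝐂[D.T]) : ∃ z ∈ D.Z, z⁻¹ * g ∈ 𝐂[D.A] := by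
  obtain ⟨x, hx, e⟩ := H.rig g hg (C_le_N1 h)
  refine ⟨x, ⟨hx, mem_centralizer_iff.2 fun y hy => ?_⟩, mem_centralizer_iff.2 fun a ha => ?_⟩
  · have e1 := e y (H.TA hy)
    have e2 := mem_centralizer_iff.1 h y hy
    calc y * x = (y * g) * g⁻¹ * x := by group
      _ = (g * y * g⁻¹) * x := by rw [e2]
      _ = x * y := by rw [e1]; group
  · calc a * (x⁻¹ * g) = x⁻¹ * (x * a * x⁻¹) * g := by group
      _ = x⁻¹ * g * a := by rw [← e a ha]; group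

/-- B11. `n = s h0 s⁻¹ h0⁻¹ ∈ A ⊓ N1` (as `φ μ = μ`), so `n = y c`, `y ∈ T`, `c ∈ Z(A)` (`rig`). By
`fpf_surj`, `y = x⁻¹ h0 x h0⁻¹`, so `(x s) h0 (x s)⁻¹ = h0 c`; `c^(q-1) = 1 = c^(q+1)`, so `c² = 1`,
`c = 1`. -/
theorem b11 {s : G} (hA : s ∈ 𝐍[D.A]) (h : s ∈ D.N1 ∨ D.Gam s) :
    ∃ x ∈ D.T, x * s * D.h0 = D.h0 * (x * s) := by
  obtain ⟨l, φ, hφ, hs⟩ : ∃ (l : F) (φ : F →+* F), φ D.μ = D.μ ∧ D.Act s l φ := by
    rcases h with h | ⟨l, -, h⟩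
    · exact ⟨1, _, rfl, H.mem_N1_iff.1 h⟩
    · exact ⟨l, _, H.μk, h⟩
  have a0 : D.Act D.h0 D.μ (RingHom.id F) := fun x => ⟨_, H.act0 x, rfl⟩
  have nA : s * D.h0 * s⁻¹ * D.h0⁻¹ ∈ D.A :=
    mul_mem (conj_mem_of_mem_normalizer hA H.h0A) (inv_mem H.h0A)
  have n1 : s * D.h0 * s⁻¹ * D.h0⁻¹ ∈ D.N1 := by
    refine ⟨mul_mem (mul_mem (mul_mem hs.mem H.h0N) (inv_mem hs.mem)) (inv_mem H.h0N),
      fun x hx => ?_⟩
    obtain ⟨u, hu⟩ := inv_conj_mem_of_mem_normalizer (mul_mem H.h0N hs.mem) hx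
    obtain ⟨y, e, c⟩ := (hs.mul a0) u
    obtain ⟨y', e', c'⟩ := (a0.mul hs) u
    have ex : x = D.ι y' := by rw [← e', hu]; group
    have : s * D.h0 * s⁻¹ * D.h0⁻¹ * x * (s * D.h0 * s⁻¹ * D.h0⁻¹)⁻¹ = D.ι y := by
      rw [← e, hu]; group
    rw [this, ex, ← map_inv, ← map_mul, H.ι_mem_Z, UH.mul_c, UH.inv_c, c, c', hφ]
    simp only [RingHom.comp_apply, RingHom.id_apply]
    ring
  obtain ⟨y, hy, e⟩ := H.rig _ (le_normalizer nA) n1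
  obtain ⟨u, hu, eu⟩ := fpf_surj H.h0N (fun x hx => H.fpf0 hx) hy
  obtain ⟨c, hc⟩ : ∃ c, c = y⁻¹ * (s * D.h0 * s⁻¹ * D.h0⁻¹) := ⟨_, rfl⟩
  have cA : c ∈ D.A := hc ▸ mul_mem (inv_mem (H.TA hy)) nA
  have cC : ∀ a ∈ D.A, a * c = c * a := fun a ha => by
    calc a * c = y⁻¹ * (y * a * y⁻¹) * (s * D.h0 * s⁻¹ * D.h0⁻¹) := by rw [hc]; group
      _ = c * a := by rw [← e a ha, hc]; group
  have k : u⁻¹ * s * D.h0 * (u⁻¹ * s)⁻¹ = c * D.h0 := by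
    have m : D.h0 * u ∈ D.A := mul_mem H.h0A (H.TA hu)
    calc u⁻¹ * s * D.h0 * (u⁻¹ * s)⁻¹ = u⁻¹ * y * (c * (D.h0 * u)) := by rw [hc]; group
      _ = u⁻¹ * y * (D.h0 * u) * c := by rw [← cC _ m]; group
      _ = D.h0 * c := by rw [eu]; group
      _ = c * D.h0 := cC _ H.h0A
  have p1 : c ^ (q - 1) = 1 := by
    have := congrArg (· ^ (q - 1)) k
    simp only [conj_pow, H.ord0, mul_one, mul_inv_cancel] at this
    rw [Commute.mul_pow (cC _ H.h0A).symm, H.ord0, mul_one] at this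
    exact this.symm
  have cc : c ∈ 𝐂[D.A] := mem_centralizer_iff.2 cC
  have p2 := H.cen c cA cc
  have h4 := H.four
  rw [show q + 1 = q - 1 + 2 ^ 1 by omega, pow_add, p1, one_mul] at p2
  rw [H.odd_cen cA cc ⟨1, p2⟩, one_mul] at k
  exact ⟨u⁻¹, inv_mem hu, mul_inv_eq_iff_eq_mul.1 k⟩

theorem w0_inv : D.w⁻¹ * D.h0 * D.w = D.h0⁻¹ := by
  have e : D.w * D.h0⁻¹ * D.w⁻¹ = D.h0 := by
    rw [show D.w * D.h0⁻¹ * D.w⁻¹ = (D.w * D.h0 * D.w⁻¹)⁻¹ by group, H.w0, inv_inv]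
  calc D.w⁻¹ * D.h0 * D.w = D.w⁻¹ * (D.w * D.h0⁻¹ * D.w⁻¹) * D.w := by rw [e]
    _ = D.h0⁻¹ := by group

theorem exists_Z_ne : ∃ z ∈ D.Z, z ≠ 1 := by
  have h4 := H.four
  have : D.Z ≠ ⊥ := fun e => by
    have := H.card_Z
    rw [e, card_bot] at this
    omega
  exact (bot_or_exists_ne_one _).resolve_left this

theorem Zm_le : D.Zm ≤ D.A ⊓ 𝐜[D.h1] := by
  refine le_inf (cj_le_of_mem (Z_le_T.trans H.TA) H.wA) fun x hx => ?_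
  obtain ⟨z, hz, rfl⟩ := mem_cj_iff_exists.1 hx
  have e := mem_centralizer_singleton_iff.1 (H.Z_h1 hz)
  have c : Commute D.w D.h1 := H.w1
  exact mem_centralizer_singleton_iff.2 ((c.mul_left e).mul_left c.inv_left)

omit H in
theorem _root_.Cfsg.Agent.U3S.Z_comm : IsMulCommutative D.Z := ⟨⟨fun x y => Subtype.ext
  (mem_centralizer_iff.1 (Z_le_C y.2) x (Z_le_T x.2))⟩⟩

theorem Z_nc : ¬ IsCyclic D.Z := fun hc => by
  have d : Nat.card D.Z ∣ 2 := by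
    rw [← hc.exponent_eq_card]
    exact Monoid.exponent_dvd_of_forall_pow_eq_one fun x => Subtype.ext (by
      simpa [sq] using H.sqZ x.2)
  have h1 := Nat.le_of_dvd two_pos d
  have h2 := H.four
  rw [H.card_Z] at h1
  omega

theorem ZZm_le : D.Z ⊔ D.Zm ≤ D.A ⊓ 𝐜[D.h1] :=
  sup_le (le_inf (Z_le_T.trans H.TA) H.Z_h1) H.Zm_le

theorem sqZm {z : G} (hz : z ∈ D.Zm) : z * z = 1 := by
  obtain ⟨y, hy, rfl⟩ := mem_cj_iff_exists.1 hz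
  rw [show D.w * y * D.w⁻¹ * (D.w * y * D.w⁻¹) = D.w * (y * y) * D.w⁻¹ by group, H.sqZ hy]
  group

theorem h0Zm : D.h0 ∈ 𝐍[D.Zm] := by
  rw [Dat.Zm, normalizer_cj, mem_cj, H.w0_inv]
  exact inv_mem (D.NZ H.h0N)

/-- `Zm = [Zm, h0]` (`fpf_surj`) -/
theorem surjZm {z : G} (hz : z ∈ D.Zm) : ∃ y ∈ D.Zm, z = y * D.h0 * y⁻¹ * D.h0⁻¹ := by
  refine fpf_surj H.h0Zm (fun x hx e => ?_) hz
  have m : D.w⁻¹ * x * D.w ∈ D.Z := mem_cj.1 hx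
  have c : Commute D.h0⁻¹ (D.w⁻¹ * x * D.w) := by
    rw [← H.w0_inv]
    calc D.w⁻¹ * D.h0 * D.w * (D.w⁻¹ * x * D.w) = D.w⁻¹ * (D.h0 * x) * D.w := by group
      _ = D.w⁻¹ * x * D.w * (D.w⁻¹ * D.h0 * D.w) := by rw [e]; group
  have := H.fpf0 (Z_le_T m) (Commute.inv_left_iff.1 c)
  rw [show x = D.w * (D.w⁻¹ * x * D.w) * D.w⁻¹ by group, this]
  group

/-- `s^(w⁻¹) ∈ N(T)` by `wN`, it commutes with `h0`; `of_h0` -/
theorem Zm_cent {s : G} (h2 : P2 s) (hA : s ∈ 𝐍[D.A]) (hT : s ∈ 𝐍[D.T])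
    (h : s * D.h0 = D.h0 * s) : D.Zm ≤ 𝐜[s] := by
  have n := H.wN s hA hT h
  rw [normalizer_cj, mem_cj] at n
  have c : Commute (D.w⁻¹ * s * D.w) D.h0⁻¹ := by
    rw [← H.w0_inv]
    calc D.w⁻¹ * s * D.w * (D.w⁻¹ * D.h0 * D.w) = D.w⁻¹ * (s * D.h0) * D.w := by group
      _ = D.w⁻¹ * D.h0 * D.w * (D.w⁻¹ * s * D.w) := by rw [h]; group
  have p : P2 (D.w⁻¹ * s * D.w) := by
    obtain ⟨k, hk⟩ := h2
    refine ⟨k, ?_⟩
    have := conj_pow (a := D.w⁻¹) (b := s) (i := 2 ^ k)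
    rw [inv_inv] at this
    rw [this, hk]
    group
  have cz : D.w⁻¹ * s * D.w ∈ 𝐂[D.Z] :=
    (H.of_h0 p n (Commute.inv_right_iff.1 c)).elim (fun h => H.N1_le_CZ h) H.gam_CZ
  intro x hx
  have e := mem_centralizer_iff.1 cz _ (mem_cj.1 hx)
  refine mem_centralizer_singleton_iff.2 ?_
  calc x * s = D.w * (D.w⁻¹ * x * D.w * (D.w⁻¹ * s * D.w)) * D.w⁻¹ := by group
    _ = s * x := by rw [e]; group

/-- a 2-subgroup of `A ⊓ C(h1)` containing `Z` lies in `T` (`ti2`), so in `Z` (`fpf1`) -/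
theorem sylZ {K : Subgroup G} (h : D.Z ≤ K) (hK : K ≤ D.A ⊓ 𝐜[D.h1]) : IsSyl 2 D.Z K := by
  refine ⟨h, H.pT.to_le Z_le_T, fun R hR ZR RK x hx => ?_⟩
  obtain ⟨z, hz, z1⟩ := H.exists_Z_ne
  have xT := H.ti2 hR (RK.trans (hK.trans inf_le_left)) (Z_le_T hz) z1 (ZR hz) hx
  have e := mem_centralizer_singleton_iff.1 (hK (RK hx)).2
  refine H.fpf1 xT ?_
  rw [← e, show x⁻¹ * (x * D.h1 * D.h1⁻¹) = 1 by group]
  exact one_mem _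

theorem Zm_conj : ∃ a ∈ D.Z ⊔ D.Zm, cj(a, D.Z) = D.Zm := by
  obtain ⟨a, ha, h⟩ := (H.sylZ le_sup_left H.ZZm_le).exists_le_cj
    (isPGroup_cj D.w (H.pT.to_le Z_le_T)) (le_sup_right : D.Zm ≤ D.Z ⊔ D.Zm)
  exact ⟨a, ha, (eq_of_le_of_card_ge h (by rw [card_cj, card_cj])).symm⟩

/-- END. `J = Z ⊔ Zm ≤ A`, `O₁ = J ⊓ O` is odd, normal in `J`, and `J/O₁` is a 2-group, so
`J = O₁ Z` (`sylZ`). `Z` is noncyclic, so `O₁ = ⟨C_{O₁}(z)⟩ ≤ N(T)` (`Solv.le_of_centralizers_le`,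
`ti`). So `Zm ≤ N(T) ⊓ A`, `Zm ≤ T`, `w ∈ N(T)` by `ti`: false. -/
theorem fin {O P : Subgroup G} (hO : Odd (Nat.card O)) (hP : IsPGroup 2 P) (n : P ≤ 𝐍[O])
    (h1 : D.Z ≤ O ⊔ P) (h2 : D.Zm ≤ O ⊔ P) : False := by
  have JA := H.ZZm_le
  have JO : D.Z ⊔ D.Zm ≤ O ⊔ P := sup_le h1 h2
  have nO : D.Z ⊔ D.Zm ≤ 𝐍[(D.Z ⊔ D.Zm) ⊓ O] :=
    le_normalizer_inf le_normalizer (JO.trans (sup_le le_normalizer n))
  have e := (H.sylZ le_sup_left JA).sup_eq_of_pRes_le (N := (D.Z ⊔ D.Zm) ⊓ O)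
    (le_inf (pRes_le _ _) ((pRes_mono JO).trans (pRes_sup_le hP n))) inf_le_left
  obtain ⟨m, hm, hq⟩ := H.exists_pow
  haveI := Z_comm (D := D)
  have nc := H.Z_nc
  have oN : (D.Z ⊔ D.Zm) ⊓ O ≤ 𝐍[D.T] := by
    refine Solv.le_of_centralizers_le D.Z _ nc (le_sup_left.trans nO) ?_ _ fun z hz z1 g hg => ?_
    · rw [H.card_Z.trans hq]
      exact Nat.Coprime.pow_left _ (Nat.coprime_two_left.2
        (hO.of_dvd_nat (card_dvd_of_le inf_le_right)))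
    · refine H.ti g (JA hg.1.1).1 z (Z_le_T hz) z1 ?_
      rw [mem_centralizer_singleton_iff.1 hg.2, mul_inv_cancel_right]
      exact Z_le_T hz
  have JN : D.Z ⊔ D.Zm ≤ 𝐍[D.T] := e.ge.trans (sup_le oN (Z_le_T.trans le_normalizer))
  have ZT : D.Zm ≤ D.T := H.syl.le_of_normalizes (isPGroup_cj D.w (H.pT.to_le Z_le_T))
    (H.Zm_le.trans inf_le_left) (le_sup_right.trans JN)
  obtain ⟨z, hz, z1⟩ := H.exists_Z_ne
  exact H.wT (H.ti _ H.wA z (Z_le_T hz) z1 (ZT (conj_mem_cj _ hz)))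

/-- `A` is perfect: `T = [T, h1] ≤ A'`, `gen` -/
theorem perf : ⁅D.A, D.A⁆ = D.A := by
  refine le_antisymm (commutator_le.2 fun x hx y hy => ?_) (H.gen _
    (le_normalizer_commutator le_normalizer le_normalizer) (H.T_le_of_h1 fun x hx => ?_))
  · exact mul_mem (mul_mem (mul_mem hx hy) (inv_mem hx)) (inv_mem hy)
  · exact commutator_mem_commutator (H.TA hx) H.h1A

end UA

end Cfsg.Agent.U3S
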