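import Mathlib
import Cfsg.Agent.U3S.Defs

/-! Definitions for the model and for the final reductions. -/

set_option autoImplicit false
set_option linter.unusedSectionVars false

namespace Cfsg.Agent.U3S

open Subgroup Cfsg.Agent.PLocal.Amb Cfsg.Agent.Gold Cfsg.Agent.Class.U Cfsg.Agent.Inv
open scoped commutatorElement

variable {G : Type*} [Group G] [Finite G] {F : Type*} [Field F] {q : ℕ} [UF F q] [CharP F 2]
  {D : Dat G F q}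

local notation "σ" => conj F q


/-- the inner facts on `A`; `UI.ua` (file `ModA`) derives `UA` -/
structure UI (D : Dat G F q) : Prop where
  four : 4 ≤ q
  inj : Function.Injective D.ι
  syl : IsSyl 2 D.T D.A
  h0A : D.h0 ∈ D.A
  h1A : D.h1 ∈ D.A
  wA : D.w ∈ D.A
  act0 : ∀ x, D.h0 * D.ι x * D.h0⁻¹ = D.ι (UH.tor D.μ x)
  act1 : ∀ x, D.h1 * D.ι x * D.h1⁻¹ = D.ι (UH.tor D.lam x)
  c01 : D.h0 * D.h1 = D.h1 * D.h0
  ord0 : D.h0 ^ (q - 1) = 1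
  odd1 : Odd (orderOf D.h1)
  μk : conj F q D.μ = D.μ
  μgen : ∀ a : F, conj F q a = a → a ≠ 0 → ∃ n : ℕ, a = (D.μ : F) ^ n
  lamN : (D.lam : F) * conj F q D.lam = 1
  lam1 : (D.lam : F) ≠ 1
  ti : ∀ g ∈ D.A, ∀ x ∈ D.T, x ≠ 1 → g * x * g⁻¹ ∈ D.T → g ∈ 𝐍[D.T]
  lin : ∀ g ∈ D.A, g ∈ 𝐍[D.T] → ∃ l, D.Act g l (RingHom.id F)
  cen : ∀ z ∈ D.A, z ∈ 𝐂[D.A] → z ^ (q + 1) = 1
  gen : ∀ K : Subgroup G, D.A ≤ 𝐍[K] → D.T ≤ K → D.A ≤ K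
  wT : D.w ∉ 𝐍[D.T]
  w0 : D.w * D.h0 * D.w⁻¹ = D.h0⁻¹
  w1 : D.w * D.h1 = D.h1 * D.w
  bru : ∀ g ∈ D.A, g ∉ 𝐍[D.T] → ∃ x ∈ D.T, ∃ n ∈ 𝐍[D.T], g = x * D.w * n
  lin1 : ∀ a ∈ D.A, a ∈ D.N1 → ∃ x ∈ D.T, x⁻¹ * a ∈ 𝐂[D.A]

/-- the image of the data under a homomorphism -/
def Dat.map {G₀ : Type*} [Group G₀] (D : Dat G₀ F q) (θ : G₀ →* G) (E M O : Subgroup G) :
    Dat G F q where
  E := E
  M := M
  A := D.A.map θ
  O := O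
  ι := θ.comp D.ι
  h0 := θ D.h0
  h1 := θ D.h1
  w := θ D.w
  μ := D.μ
  lam := D.lam

/-- the part of `ST` that does not mention the model -/
structure SH (E M A O : Subgroup G) : Prop where
  E2 : ∀ e ∈ E, e * e = 1
  E1 : E ≠ ⊥
  cent : ∀ e ∈ E, e ≠ 1 → 𝐜[e] = M
  AM : A ≤ M
  MA : M ≤ 𝐍[A]
  oddO : Odd (Nat.card O)
  OM : O ≤ M ⊓ 𝐂[A]
  dec : ∀ x ∈ M, x ∈ 𝐂[A] → ∃ e ∈ E, ∃ o ∈ O, x = e * o

variable (F q) in
/-- `A` is quasisimple with `A/Z(A) ≅ PSU₃(q)`, `q ≥ 4` -/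
structure HU3 (A : Subgroup G) : Prop where
  qs : IsQuasisimple A
  four : 4 ≤ q
  iso : Nonempty ((A ⧸ center A) ≃* PSU 3 F q)

/-- `Out` without the model -/
structure Out' (q : ℕ) (E M A L : Subgroup G) : Prop where
  two : Nat.card E = 2
  EL : ∀ e ∈ E, e ∈ L → e = 1
  iso : ∃ (K : Type) (_ : Field K) (_ : Fintype K), Fintype.card K = q ^ 2 ∧
    Nonempty (L ≃* Matrix.ProjectiveSpecialLinearGroup (Fin 3) K)
  inA : ∀ x ∈ L, x ∈ M → P2 x → x ∈ A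
  cls : ∀ e ∈ E, e ≠ 1 → ∀ x ∈ L, e * x * (e * x) = 1 → ∃ g ∈ L, g * e * g⁻¹ = e * x

theorem SH.st (U : UA D) (H : SH D.E D.M D.A D.O) : ST D :=
  { U with E2 := H.E2, E1 := H.E1, cent := H.cent, AM := H.AM, MA := H.MA, oddO := H.oddO,
           OM := H.OM, dec := H.dec }

theorem Out.out' {L : Subgroup G} (H : Out D L) : Out' q D.E D.M D.A L :=
  ⟨H.two, H.EL, H.iso, H.inA, H.cls⟩

end Cfsg.Agent.U3S
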