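import Mathlib
import Cfsg.Agent.U3S.ModD
import Cfsg.Agent.U3S.Fld
import Cfsg.Agent.U3S.BaseA

/-! `UI → UA`: the two facts on elements normalizing `A`. -/

set_option autoImplicit false
set_option linter.unusedSectionVars false

namespace Cfsg.Agent.U3S

open Subgroup Cfsg.Agent.PLocal.Amb Cfsg.Agent.Gold Cfsg.Agent.Class.U Cfsg.Agent.Inv
open scoped commutatorElement

variable {G : Type*} [Group G] [Finite G] {F : Type*} [Field F] {q : ℕ} [UF F q] [CharP F 2]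
  {D : Dat G F q}

local notation "σ" => conj F q


namespace UI

variable (H : UI D)
include H

theorem mA_Z {x : UH F q} : D.ι x ∈ D.Z ↔ x.c = 0 := by
  rw [← UH.mem_center_iff, Subgroup.mem_center_iff]
  constructor
  · intro h y
    exact H.inj (by rw [map_mul, map_mul]; exact h.2 _ (ι_mem y))
  · intro h
    refine ⟨ι_mem x, ?_⟩
    rintro _ ⟨y, rfl⟩
    rw [← map_mul, ← map_mul, h]

theorem mA_h0 : D.h0 ∈ 𝐍[D.T] :=
  Dat.Act.mem (l := D.μ) (φ := RingHom.id F) fun x => ⟨_, H.act0 x, rfl⟩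

theorem mA_h1 : D.h1 ∈ 𝐍[D.T] :=
  Dat.Act.mem (l := D.lam) (φ := RingHom.id F) fun x => ⟨_, H.act1 x, rfl⟩

/-- `y T^w`: `y` is a 2-element of `A` normalizing the Sylow subgroup `T^w`, so `y ∈ T^w`; if `y ≠ 1`,
`ti` (for `w⁻¹`) gives `w ∈ N(T)`. -/
theorem inf_w {y : G} (hy : y ∈ D.T) (h : y ∈ 𝐍[cj(D.w, D.T)]) : y = 1 := by
  by_contra y1
  have h1 := (H.syl.cj_of_mem H.wA).le_of_normalizes (H.syl.pgrp.to_le (zpowers_le.2 hy))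
    (zpowers_le.2 (H.syl.le hy)) (zpowers_le.2 h) (mem_zpowers y)
  exact H.wT (inv_mem_iff.1 (H.ti _ (inv_mem H.wA) y hy y1 (by rw [inv_inv]; exact mem_cj.1 h1)))

/-- `μ ≠ 1` and `μ² ≠ 1` since `q ≥ 4` -/
theorem fpf0 {x : G} (hx : x ∈ D.T) (h : D.h0 * x = x * D.h0) : x = 1 := by
  have m1 : (D.μ : F) ≠ 1 := fun e => by
    have h1 := card_fixed_ne_zero (F := F) (q := q)
    have : Subsingleton {x : F // x ≠ 0 ∧ σ x = x} := ⟨fun a b => Subtype.ext (by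
      obtain ⟨n, hn⟩ := H.μgen a a.2.2 a.2.1
      obtain ⟨m, hm⟩ := H.μgen b b.2.2 b.2.1
      rw [hn, hm, e, one_pow, one_pow])⟩
    have h2 := Finite.card_le_one_iff_subsingleton.2 this
    have := H.four
    omega
  obtain ⟨u, rfl⟩ := hx
  have e : UH.tor D.μ u = u := H.inj (by rw [← H.act0, h, mul_inv_cancel_right])
  have e1 := congrArg UH.c e
  have e2 := congrArg UH.a e
  rw [UH.tor_c] at e1
  rw [UH.tor_a, H.μk] at e2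
  have h2 : (2 : F) = 0 := CharTwo.two_eq_zero
  have m2 : (D.μ : F) - 1 ≠ 0 := sub_ne_zero.2 m1
  rw [show u = 1 from UH.ext (mul_left_cancel₀ m2 (by rw [UH.one_c]; linear_combination e1))
    (mul_left_cancel₀ (mul_ne_zero m2 m2) (by
      rw [UH.one_a]; linear_combination e2 + (u.a - D.μ * u.a) * h2)), map_one]

/-- `s T^w s⁻¹` is Sylow in `A`, so `= T^g`, `g ∈ A`, and it is normalized by `h0` (`w0`, `act0`).
If `g ∈ N(T)` then `T^w = T`, false. Otherwise `T^g = (T^w)^x`, `x ∈ T` (`bru`), and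
`h0⁻¹ x⁻¹ h0 x ∈ T ⊓ N(T^w) = 1`, so `x = 1` by `fpf0`. -/
theorem wN {s : G} (hA : s ∈ 𝐍[D.A]) (hT : s ∈ 𝐍[D.T]) (h : s * D.h0 = D.h0 * s) :
    s ∈ 𝐍[cj(D.w, D.T)] := by
  obtain ⟨g, hg, e⟩ := ((H.syl.cj_of_mem H.wA).cj_of_mem_normalizer hA).exists_cj_eq H.syl
  have n0 : D.h0 ∈ 𝐍[cj(D.w, D.T)] := by
    rw [normalizer_cj, mem_cj, show D.w⁻¹ * D.h0 * D.w = (D.w⁻¹ * D.h0⁻¹ * D.w)⁻¹ by group, ← H.w0,
      show D.w⁻¹ * (D.w * D.h0 * D.w⁻¹) * D.w = D.h0 by group]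
    exact inv_mem H.mA_h0
  have n1 : D.h0 ∈ 𝐍[cj(g, D.T)] := by
    rw [e, normalizer_cj, mem_cj, mul_assoc, ← h, inv_mul_cancel_left]
    exact n0
  by_cases hn : g ∈ 𝐍[D.T]
  · rw [cj_of_mem_normalizer hn] at e
    nth_rewrite 1 [← cj_of_mem_normalizer hT] at e
    exact absurd (cj_eq_iff.1 (cj_inj.1 e).symm) H.wT
  obtain ⟨x, hx, n, hn', rfl⟩ := H.bru g hg hn
  rw [cj_mul, cj_of_mem_normalizer hn', cj_mul] at e n1
  rw [normalizer_cj, mem_cj] at n1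
  have e1 := H.inf_w (y := D.h0⁻¹ * x⁻¹ * D.h0 * x)
    (mul_mem (inv_conj_mem_of_mem_normalizer H.mA_h0 (inv_mem hx)) hx) (by
      rw [show D.h0⁻¹ * x⁻¹ * D.h0 * x = D.h0⁻¹ * (x⁻¹ * D.h0 * x) by group]
      exact mul_mem (inv_mem n0) n1)
  rw [H.fpf0 hx (by
    rw [show D.h0 * x = x * D.h0 * (D.h0⁻¹ * x⁻¹ * D.h0 * x) by group, e1, mul_one]), cj_one] at e
  exact cj_eq_iff.1 e.symm

/-- `φ y = g y g⁻¹ y⁻¹ ∈ Z` is a homomorphism on `T`, trivial on squares, so on `Z`.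
`n = g h1 g⁻¹ h1⁻¹ ∈ A ⊓ N1` acts on `T` like `x ∈ T` (`lin1`). -/
theorem rig1 {g : G} (hA : g ∈ 𝐍[D.A]) (h : g ∈ D.N1) : ∃ x ∈ D.T, x⁻¹ * g ∈ 𝐂[D.T] := by
  have h2 : (2 : F) = 0 := CharTwo.two_eq_zero
  set φ : G → G := fun y => g * y * g⁻¹ * y⁻¹ with hφ
  have hm : ∀ y ∈ D.T, ∀ y' ∈ D.T, φ (y * y') = φ y * φ y' := fun y hy y' hy' => by
    show g * (y * y') * g⁻¹ * (y * y')⁻¹ = g * y * g⁻¹ * y⁻¹ * (g * y' * g⁻¹ * y'⁻¹)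
    rw [(h.2 y' hy').2 _ (h.2 y hy).1 |>.trans (by rfl),
      show g * (y * y') * g⁻¹ * (y * y')⁻¹ = g * y * g⁻¹ * (g * y' * g⁻¹ * y'⁻¹) * y⁻¹ by group,
      (h.2 y' hy').2 _ (conj_mem_of_mem_normalizer h.1 hy)]
    group
  have sq : ∀ z ∈ D.Z, z * z = 1 := by
    rintro _ ⟨⟨u, rfl⟩, hu⟩
    have c := H.mA_Z.1 ⟨ι_mem u, hu⟩
    rw [← map_mul, show u * u = 1 from UH.ext (by simp [c]) (by
      simp only [UH.mul_a, c, UH.one_a]; linear_combination u.a * h2), map_one]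
  have hZ : ∀ z ∈ D.Z, φ z = 1 := by
    rintro _ ⟨⟨u, rfl⟩, hu⟩
    have c := H.mA_Z.1 ⟨ι_mem u, hu⟩
    obtain ⟨d, hd⟩ := exists_norm_eq (bA_conj_a c)
    obtain ⟨v, hv⟩ := UH.exists_c (q := q) d
    rw [show u = v * v from UH.ext (by rw [UH.mul_c, c]; linear_combination -v.c * h2) (by
      rw [UH.mul_a, hv, hd]; linear_combination (u.a - v.a) * h2), map_mul,
      hm _ (ι_mem v) _ (ι_mem v)]
    exact sq _ (h.2 _ (ι_mem v))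
  have gZ : ∀ z ∈ D.Z, g * z * g⁻¹ = z := fun z hz => mul_inv_eq_one.1 (hZ z hz)
  have h1Z : ∀ z ∈ D.Z, D.h1 * z * D.h1⁻¹ = z := by
    rintro _ ⟨⟨u, rfl⟩, hu⟩
    have c := H.mA_Z.1 ⟨ι_mem u, hu⟩
    rw [H.act1, show UH.tor D.lam u = u from UH.ext (by rw [UH.tor_c, c, mul_zero]) (by
      rw [UH.tor_a, H.lamN, one_mul])]
  obtain ⟨_, ⟨x, rfl⟩, hx⟩ := H.lin1 (g * D.h1 * g⁻¹ * D.h1⁻¹)
    (mul_mem (conj_mem_of_mem_normalizer hA H.h1A) (inv_mem H.h1A)) (by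
      rw [show g * D.h1 * g⁻¹ * D.h1⁻¹ = g * (D.h1 * g⁻¹ * D.h1⁻¹) by group]
      exact mul_mem h (conj_mem_of_mem_normalizer (N_N1 H.mA_h1) (inv_mem h)))
  have key : ∀ u, φ (D.ι (UH.tor D.lam u * u⁻¹)) =
      D.ι (x * UH.tor D.lam u * x⁻¹ * (UH.tor D.lam u)⁻¹) := fun u => by
    have e1 := hx _ (H.syl.le (ι_mem (UH.tor D.lam u)))
    have z1 : (φ (D.ι u))⁻¹ ∈ D.Z := inv_mem (h.2 _ (ι_mem u))
    have e0 : φ (D.ι u)⁻¹ = (φ (D.ι u))⁻¹ := eq_inv_of_mul_eq_one_left (by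
      rw [← hm _ (inv_mem (ι_mem u)) _ (ι_mem u), inv_mul_cancel]; exact hZ 1 (one_mem _))
    have e2 : g⁻¹ * D.ι u * g = (φ (D.ι u))⁻¹ * D.ι u := by
      rw [show (φ (D.ι u))⁻¹ * D.ι u = g⁻¹ * (g * (φ (D.ι u))⁻¹ * g⁻¹ * (g * D.ι u * g⁻¹)) * g by
        group, gZ _ z1]
      simp only [hφ]
      group
    rw [map_mul, map_inv, hm _ (ι_mem _) _ (inv_mem (ι_mem u)), e0, z1.2 _ (h.2 _ (ι_mem _)).1]
    simp only [map_mul, map_inv]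
    symm
    calc D.ι x * D.ι (UH.tor D.lam u) * (D.ι x)⁻¹ * (D.ι (UH.tor D.lam u))⁻¹
        = D.ι x * (D.ι (UH.tor D.lam u) * ((D.ι x)⁻¹ * (g * D.h1 * g⁻¹ * D.h1⁻¹))) *
          (g * D.h1 * g⁻¹ * D.h1⁻¹)⁻¹ * (D.ι (UH.tor D.lam u))⁻¹ := by group
      _ = g * (D.h1 * (g⁻¹ * D.ι u * g) * D.h1⁻¹) * g⁻¹ * (D.ι (UH.tor D.lam u))⁻¹ := by
        rw [e1]; nth_rewrite 1 [← H.act1 u]; group
      _ = g * (D.h1 * (φ (D.ι u))⁻¹ * D.h1⁻¹) * g⁻¹ * (g * (D.h1 * D.ι u * D.h1⁻¹) * g⁻¹ *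
          (D.ι (UH.tor D.lam u))⁻¹) := by rw [e2]; group
      _ = _ := by rw [h1Z _ z1, gZ _ z1, H.act1]
  have m2 : (D.lam : F) - 1 ≠ 0 := sub_ne_zero.2 H.lam1
  obtain ⟨x', hx'⟩ := UH.exists_c (q := q) (x.c * σ D.lam / σ (D.lam - 1))
  refine ⟨_, ι_mem x', ?_⟩
  rintro _ ⟨v, rfl⟩
  obtain ⟨u, hu⟩ := UH.exists_c (q := q) (v.c / (D.lam - 1))
  have e1 : φ (D.ι v) = D.ι (x' * v * x'⁻¹ * v⁻¹) := by
    rw [show D.ι v = D.ι (v * (UH.tor D.lam u * u⁻¹)⁻¹) * D.ι (UH.tor D.lam u * u⁻¹) by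
      rw [← map_mul, inv_mul_cancel_right], hm _ (ι_mem _) _ (ι_mem _), hZ _ (H.mA_Z.2 (by
        simp only [UH.mul_c, UH.inv_c, UH.tor_c, hu]; field_simp; ring)), one_mul, key]
    congr 1
    refine UH.ext (by rw [UH.commutator_c, UH.commutator_c]) ?_
    have m3 := (conj_ne_zero (q := q)).2 m2
    rw [UH.commutator_a, UH.commutator_a, UH.tor_c, hu, hx']
    simp only [map_mul, map_div₀, conj_conj]
    field_simp
  simp only [hφ, map_mul, map_inv] at e1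
  calc D.ι v * ((D.ι x')⁻¹ * g)
      = (D.ι x')⁻¹ * (D.ι x' * D.ι v * (D.ι x')⁻¹ * (D.ι v)⁻¹) * D.ι v * g := by group
    _ = _ := by rw [← e1]; group

/-- `g h0 g⁻¹ = z c h0` with `z ∈ Z`, `c ∈ A ⊓ C(A)` (`lin1`). `z = y h0 y⁻¹ h0⁻¹` with `y ∈ Z`, so
`(y⁻¹ g) h0 (y⁻¹ g)⁻¹ = c h0`; `c^(q-1) = 1 = c^(q+1)` (`ord0`, `cen`), `q` is even, so `c = 1`. -/
theorem rig2 {g : G} (hA : g ∈ 𝐍[D.A]) (h : g ∈ 𝐂[D.T]) :
    ∃ y ∈ D.Z, y⁻¹ * g * D.h0 = D.h0 * (y⁻¹ * g) := by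
  have nA : g * D.h0 * g⁻¹ * D.h0⁻¹ ∈ D.A :=
    mul_mem (conj_mem_of_mem_normalizer hA H.h0A) (inv_mem H.h0A)
  have nC : g * D.h0 * g⁻¹ * D.h0⁻¹ ∈ 𝐂[D.T] := by
    rw [show g * D.h0 * g⁻¹ * D.h0⁻¹ = g * (D.h0 * g⁻¹ * D.h0⁻¹) by group]
    exact mul_mem h (conj_mem_of_mem_normalizer (normalizer_le_normalizer_centralizer _ H.mA_h0)
      (inv_mem h))
  obtain ⟨y, hy, cc⟩ := H.lin1 _ nA (C_le_N1 nC)
  have yZ : y ∈ D.Z := ⟨hy, (Subgroup.inv_mem_iff _).1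
    ((Subgroup.mul_mem_cancel_right _ nC).1 (centralizer_anti H.syl.le cc))⟩
  obtain ⟨u, hu, eu⟩ := fpf_surj (D.NZ H.mA_h0) (fun x hx => H.fpf0 (Z_le_T hx)) yZ
  obtain ⟨c, hc⟩ : ∃ c, c = y⁻¹ * (g * D.h0 * g⁻¹ * D.h0⁻¹) := ⟨_, rfl⟩
  rw [← hc] at cc
  have cA : c ∈ D.A := hc ▸ mul_mem (inv_mem (H.syl.le hy)) nA
  have cC : ∀ a ∈ D.A, a * c = c * a := mem_centralizer_iff.1 cc
  have k : u⁻¹ * g * D.h0 * (u⁻¹ * g)⁻¹ = c * D.h0 := by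
    have m : D.h0 * u ∈ D.A := mul_mem H.h0A (H.syl.le (Z_le_T hu))
    calc u⁻¹ * g * D.h0 * (u⁻¹ * g)⁻¹ = u⁻¹ * y * (c * (D.h0 * u)) := by rw [hc]; group
      _ = u⁻¹ * y * (D.h0 * u) * c := by rw [← cC _ m]; group
      _ = D.h0 * c := by rw [eu]; group
      _ = c * D.h0 := cC _ H.h0A
  have p1 : c ^ (q - 1) = 1 := by
    have := congrArg (· ^ (q - 1)) k
    simp only [conj_pow, H.ord0, mul_one, mul_inv_cancel] at this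
    rw [Commute.mul_pow (cC _ H.h0A).symm, H.ord0, mul_one] at this
    exact this.symm
  have p2 := H.cen c cA cc
  have h4 := H.four
  have p3 := p2
  rw [show q + 1 = q - 1 + 2 by omega, pow_add, p1, one_mul] at p3
  obtain ⟨n, n0, hq⟩ := UH.exists_pow_eq F q 2
  have c1 : c = 1 := by
    obtain ⟨m, hm⟩ : 2 ∣ q := hq ▸ dvd_pow_self 2 (by rintro rfl; omega)
    rwa [hm, pow_succ, pow_mul, p3, one_pow, one_mul] at p2
  rw [c1, one_mul] at k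
  exact ⟨u, hu, mul_inv_eq_iff_eq_mul.1 k⟩

/-- An element `a ∈ A` normalizing all `T^b`, `b ∈ A`, centralizes `A`. -/
theorem core {a : G} (ha : a ∈ D.A) (h : ∀ b ∈ D.A, a ∈ 𝐍[cj(b, D.T)]) : a ∈ 𝐂[D.A] := by
  have h1 : ∀ b ∈ D.A, ∀ b' ∈ D.A, b⁻¹ * a * b ∈ 𝐍[cj(b', D.T)] := fun b hb b' hb' => by
    have := h _ (mul_mem hb hb')
    rwa [cj_mul, normalizer_cj, mem_cj] at this
  have h2 := H.gen (centralizer {y | ∃ b ∈ D.A, y = b⁻¹ * a * b})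
    (le_normalizer_iff_cj.2 fun g hg => cj_le_iff_forall.2 fun x hx => by
      rintro _ ⟨b, hb, rfl⟩
      have := hx _ ⟨b * g, mul_mem hb hg, rfl⟩
      calc b⁻¹ * a * b * (g * x * g⁻¹) = g * ((b * g)⁻¹ * a * (b * g) * x) * g⁻¹ := by group
        _ = _ := by rw [this]; group)
    (fun x hx => by
      rintro _ ⟨b, hb, rfl⟩
      have n1 := h1 b hb 1 (one_mem _)
      rw [cj_one] at n1
      have e := H.inf_w (mul_mem (conj_mem_of_mem_normalizer n1 hx) (inv_mem hx)) (by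
        rw [show b⁻¹ * a * b * x * (b⁻¹ * a * b)⁻¹ * x⁻¹ =
          b⁻¹ * a * b * ((b * x⁻¹)⁻¹ * a * (b * x⁻¹))⁻¹ by group]
        exact mul_mem (h1 b hb _ H.wA)
          (inv_mem (h1 _ (mul_mem hb (inv_mem (H.syl.le hx))) _ H.wA)))
      rwa [mul_inv_eq_one, mul_inv_eq_iff_eq_mul] at e)
  exact fun x hx => (h2 hx a ⟨1, one_mem _, by group⟩).symm

/-- `g` normalizes all `T^b` (`wN`, `bru`). For `a ∈ A`, `g a g⁻¹ a⁻¹ ∈ C(A)` (`core`), so `A`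
normalizes `A ⊓ C(g) ≥ T`; `gen`. -/
theorem rig3 {g : G} (hA : g ∈ 𝐍[D.A]) (h : g ∈ 𝐂[D.T]) (h0 : g * D.h0 = D.h0 * g) :
    g ∈ 𝐂[D.A] := by
  have hT := centralizer_le_normalizer' _ h
  have h1 : ∀ b ∈ D.A, g ∈ 𝐍[cj(b, D.T)] := fun b hb => by
    by_cases hn : b ∈ 𝐍[D.T]
    · rwa [cj_of_mem_normalizer hn]
    obtain ⟨x, hx, n, hn', rfl⟩ := H.bru b hb hn
    rw [cj_mul, cj_of_mem_normalizer hn', cj_mul, normalizer_cj, mem_cj, mul_assoc, ← h x hx,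
      inv_mul_cancel_left]
    exact H.wN hA hT h0
  have h2 : ∀ a ∈ D.A, g * a * g⁻¹ * a⁻¹ ∈ 𝐂[D.A] := fun a ha =>
    H.core (mul_mem (conj_mem_of_mem_normalizer hA ha) (inv_mem ha)) fun b hb => by
      have := h1 _ (mul_mem (inv_mem ha) hb)
      rw [cj_mul, normalizer_cj, mem_cj, inv_inv] at this
      rw [show g * a * g⁻¹ * a⁻¹ = g * (a * g * a⁻¹)⁻¹ by group]
      exact mul_mem (h1 b hb) (inv_mem this)
  have h3 := H.gen (D.A ⊓ 𝐜[g])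
    (le_normalizer_iff_cj.2 fun b hb => cj_le_iff_forall.2 fun x hx =>
      ⟨conj_mem_of_mem_normalizer (le_normalizer hb) hx.1, mem_centralizer_singleton_iff.2 (by
        have e1 := mem_centralizer_singleton_iff.1 hx.2
        have e2 := inv_mem (h2 _ (inv_mem hb)) x hx.1
        calc b * x * b⁻¹ * g = b * (x * (g * b⁻¹ * g⁻¹ * b⁻¹⁻¹)⁻¹) * g * b⁻¹ := by group
          _ = b * (g * b⁻¹ * g⁻¹ * b⁻¹⁻¹)⁻¹ * (x * g) * b⁻¹ := by rw [e2]; group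
          _ = _ := by rw [e1]; group)⟩)
    fun x hx => ⟨H.syl.le hx, mem_centralizer_singleton_iff.2 (h x hx)⟩
  exact fun a ha => mem_centralizer_singleton_iff.1 (h3 ha).2

/-- `rig1`, `rig2`, `rig3`, `wN` -/
theorem ua : UA D :=
  { H with
    wN := fun _ hA hT h => H.wN hA hT h
    rig := fun g hA h => by
      obtain ⟨x, hx, h1⟩ := H.rig1 hA h
      have n1 := mul_mem (inv_mem (le_normalizer (H.syl.le hx))) hA
      obtain ⟨y, hy, h2⟩ := H.rig2 n1 h1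
      have h3 := H.rig3 (mul_mem (inv_mem (le_normalizer (H.syl.le (Z_le_T hy)))) n1)
        (mul_mem (inv_mem (Z_le_C hy)) h1) h2
      refine ⟨x * y, mul_mem hx (Z_le_T hy), fun a ha => ?_⟩
      calc g * a * g⁻¹ = x * y * (y⁻¹ * (x⁻¹ * g) * a) * g⁻¹ := by group
        _ = _ := by rw [← h3 a ha]; group }

end UI

end Cfsg.Agent.U3S
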