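import Mathlib
import Cfsg.Agent.U3S.ModD
import Cfsg.Agent.Class.U.U3Binary

/-! The model in `SU₃(q)`. -/

set_option autoImplicit false
set_option linter.unusedSectionVars false

namespace Cfsg.Agent.U3S

open Subgroup Cfsg.Agent.PLocal.Amb Cfsg.Agent.Gold Cfsg.Agent.Class.U Cfsg.Agent.Inv
open scoped commutatorElement

variable {G : Type*} [Group G] [Finite G] {F : Type*} [Field F] {q : ℕ} [UF F q] [CharP F 2]
  {D : Dat G F q}

local notation "σ" => conj F q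
local notation "𝐡" => hermForm 3 F q

namespace ModS

variable {e n f : Fin 3 → F}

theorem exists_iota (h : Fr q e n f) :
    ∃ ι : UH F q →* SU 3 F q, ∀ x, IsSiegel e (x.c • n) x.a (ι x) := by
  have hww : ∀ c d : F, 𝐡 (c • n) (d • n) = c * σ d := fun c d => by
    simp only [herm_smul_left, herm_smul_right, h.nn]; ring
  have hwu : ∀ c : F, 𝐡 (c • n) e = 0 := fun c => by rw [herm_smul_left, h.ne, mul_zero]
  have hex : ∀ x : UH F q, ∃ g : SU 3 F q, IsSiegel e (x.c • n) x.a g := fun x => h.exists_unip x.h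
  choose ι hι using hex
  refine ⟨MonoidHom.mk' ι fun x y => (hι _).unique ?_, hι⟩
  have := (hι x).mul (hι y) h.ee (hwu _) (hwu _)
  rwa [← add_smul, hww] at this

theorem ext2 (h : Fr q e n f) {g k : SU 3 F q} (he : g • e = k • e) (hf : g • f = k • f) : g = k := by
  have : k⁻¹ * g = 1 := h.eq_one (by rw [mul_smul, he, inv_smul_smul])
    (by rw [mul_smul, hf, inv_smul_smul])
  exact (inv_mul_eq_one.1 this).symm

theorem pow_smul_eigen {g : SU 3 F q} {x : Fin 3 → F} {l : F} (h : g • x = l • x) (k : ℕ) :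
    g ^ k • x = l ^ k • x := by
  induction k with
  | zero => simp
  | succ k ih => rw [pow_succ, mul_smul, h, SU_smul_comm, ih, smul_smul, pow_succ']

variable {ι : UH F q →* SU 3 F q}

theorem mem_T (h : Fr q e n f) (hι : ∀ x, IsSiegel e (x.c • n) x.a (ι x)) {g : SU 3 F q} :
    g ∈ ι.range ↔ g • e = e := by
  constructor
  · rintro ⟨x, rfl⟩
    exact h.unip_e (hι x)
  · intro hg
    obtain ⟨c, a, hu⟩ := h.isSiegel_of_fix hg
    have h1 := hu.cond h.e_ne h.ee (by rw [herm_smul_left, h.ne, mul_zero])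
    rw [herm_smul_left, herm_smul_right, h.nn, mul_one] at h1
    exact ⟨⟨c, a, h1⟩, (hι _).unique hu⟩

theorem eq_one_of_eigen (h : Fr q e n f) (hι : ∀ x, IsSiegel e (x.c • n) x.a (ι x)) {x : UH F q}
    {v : Fin 3 → F} (hv : 𝐡 v e ≠ 0) {m : F} (hm : ι x • v = m • v) : x = 1 := by
  obtain ⟨h1, h2⟩ := h.unip_fix (hι x) hv hm
  exact UH.ext h1 h2

theorem inj (h : Fr q e n f) (hι : ∀ x, IsSiegel e (x.c • n) x.a (ι x)) : Function.Injective ι :=
  (injective_iff_map_eq_one ι).2 fun x hx =>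
    eq_one_of_eigen h hι (v := f) (m := 1) (by rw [h.fe]; exact one_ne_zero) (by rw [hx]; simp)

theorem mem_N_of_eigen (h : Fr q e n f) (hι : ∀ x, IsSiegel e (x.c • n) x.a (ι x)) {g : SU 3 F q}
    {l : F} (hg : g • e = l • e) : g ∈ 𝐍[ι.range] := by
  have := UF.finite (F := F) q
  have hl := eigen_ne_zero h.e_ne hg
  refine mem_normalizer_of_cj_le (cj_le_iff_forall.2 fun x hx => (mem_T h hι).2 ?_)
  rw [mul_smul, mul_smul, inv_smul_of_eigen hl hg, SU_smul_comm, (mem_T h hι).1 hx, SU_smul_comm, hg,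
    inv_smul_smul₀ hl]

theorem eigen_of_conj (h : Fr q e n f) (hι : ∀ x, IsSiegel e (x.c • n) x.a (ι x)) {g x : SU 3 F q}
    (hx : x ∈ ι.range) (x1 : x ≠ 1) (hg : g⁻¹ * x * g ∈ ι.range) : ∃ l : F, g • e = l • e := by
  obtain ⟨y, rfl⟩ := hx
  have h1 := (mem_T h hι).1 hg
  rw [mul_smul, mul_smul, inv_smul_eq_iff] at h1
  refine iso_par h.e_ne h.ee (by rw [SU_herm, h.ee]) ?_
  by_contra hc
  exact x1 (by rw [eq_one_of_eigen h hι (x := y) hc (m := 1) (by rw [h1, one_smul]), map_one])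

theorem exists_ne_one : ∃ x : UH F q, x.c = 1 ∧ x ≠ 1 := by
  obtain ⟨x, hx⟩ := UH.exists_c (F := F) (q := q) 1
  exact ⟨x, hx, fun h => by rw [h] at hx; exact zero_ne_one hx⟩

theorem eigen_of_mem_N (h : Fr q e n f) (hι : ∀ x, IsSiegel e (x.c • n) x.a (ι x)) {g : SU 3 F q}
    (hg : g ∈ 𝐍[ι.range]) : ∃ l : F, g • e = l • e := by
  obtain ⟨x, -, x1⟩ := exists_ne_one (F := F) (q := q)
  exact eigen_of_conj h hι ⟨x, rfl⟩ (fun h1 => x1 (inj h hι (by rw [h1, map_one])))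
    (inv_conj_mem_of_mem_normalizer hg ⟨x, rfl⟩)

theorem act_diag (h : Fr q e n f) (hι : ∀ x, IsSiegel e (x.c • n) x.a (ι x)) {d : SU 3 F q} {l : F}
    (he : d • e = l • e) (hf : d • f = (σ l)⁻¹ • f) (t : Fˣ) (ht : (t : F) * l = σ l ^ 2)
    (x : UH F q) : d * ι x * d⁻¹ = ι (UH.tor t x) := by
  have hl := eigen_ne_zero h.e_ne he
  have hl' : σ l ≠ 0 := conj_ne_zero.2 hl
  have h1 := (hι x).conj d
  rw [he, SU_smul_comm, (h.n_of_diag he hf).2] at h1
  have h2 := h1.of_smul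
  have h3 := congrArg σ ht
  rw [map_mul, map_pow, conj_conj] at h3
  refine h2.unique ?_
  have h4 := hι (UH.tor t x)
  rw [UH.tor_c, UH.tor_a] at h4
  have h5 : (t : F) * σ t = l * σ l := by
    apply mul_right_cancel₀ (mul_ne_zero hl hl')
    linear_combination (σ t * σ l) * ht + σ l ^ 2 * h3
  have h6 : σ l • x.c • (σ l / l) • n = ((t : F) * x.c) • n := by
    rw [smul_smul, smul_smul]
    congr 1
    field_simp
    linear_combination (-x.c) * ht
  rwa [h6, ← h5]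

theorem split (h : Fr q e n f) (hι : ∀ x, IsSiegel e (x.c • n) x.a (ι x)) {g : SU 3 F q}
    (hg : g ∈ 𝐍[ι.range]) : ∃ (z : UH F q) (d : SU 3 F q) (l : F) (t : Fˣ), g = ι z * d ∧
      d • e = l • e ∧ d • f = (σ l)⁻¹ • f ∧ (t : F) * l = σ l ^ 2 ∧
      ∀ x, g * ι x * g⁻¹ = ι (z * UH.tor t x * z⁻¹) := by
  obtain ⟨l, hl⟩ := eigen_of_mem_N h hι hg
  have l0 := eigen_ne_zero h.e_ne hl
  obtain ⟨d, he, hf⟩ := h.exists_diag l0
  obtain ⟨z, hz⟩ : g * d⁻¹ ∈ ι.range := (mem_T h hι).2 (by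
    rw [mul_smul, inv_smul_of_eigen l0 he, SU_smul_comm, hl, inv_smul_smul₀ l0])
  have ht : ((Units.mk0 (σ l ^ 2 / l) (div_ne_zero (pow_ne_zero _ (conj_ne_zero.2 l0)) l0) : Fˣ) : F) *
      l = σ l ^ 2 := by
    rw [Units.val_mk0, div_mul_cancel₀ _ l0]
  have hg' : g = ι z * d := by rw [hz, inv_mul_cancel_right]
  refine ⟨z, d, l, _, hg', he, hf, ht, fun x => ?_⟩
  rw [map_mul, map_mul, map_inv, ← act_diag h hι he hf _ ht, hg']
  group

theorem exists_gen : ∃ μ : Fˣ, σ μ = μ ∧ ∀ a : F, σ a = a → a ≠ 0 → ∃ k : ℕ, a = (μ : F) ^ k := by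
  have := UF.finite (F := F) q
  let K : Subgroup Fˣ :=
    { carrier := {u | σ u = u}
      one_mem' := by simp
      mul_mem' := fun {a b} ha hb => by
        simp only [Set.mem_setOf_eq, Units.val_mul, map_mul] at ha hb ⊢; rw [ha, hb]
      inv_mem' := fun {a} ha => by
        simp only [Set.mem_setOf_eq, Units.val_inv_eq_inv_val, map_inv₀] at ha ⊢; rw [ha] }
  obtain ⟨μ, hμ⟩ := IsCyclic.exists_monoid_generator (α := K)
  refine ⟨μ, μ.2, fun a ha a0 => ?_⟩
  obtain ⟨k, hk⟩ := hμ ⟨Units.mk0 a a0, ha⟩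
  exact ⟨k, by simpa using (congrArg (fun u : K => ((u : Fˣ) : F)) hk).symm⟩

theorem exists_beta (h4 : 4 ≤ q) : ∃ β : F, β * σ β = 1 ∧ β ^ 3 ≠ 1 := by
  have := UF.finite (F := F) q
  by_contra hc
  push Not at hc
  have h1 := card_norm_fiber (F := F) (q := q) one_ne_zero (map_one _)
  have h2 := card_pow_eq_one (F := F) (d := 3) (by norm_num)
  have h3 : Nat.card {x : F // x * σ x = 1} ≤ Nat.card {x : F // x ^ 3 = 1} :=
    Nat.card_le_card_of_injective (fun x => ⟨x.1, hc _ x.2⟩) fun x y hxy =>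
      Subtype.ext (by simpa using hxy)
  have h5 : (Nat.card Fˣ).gcd 3 ≤ 3 := Nat.gcd_le_right _ (by norm_num)
  omega

variable (F q) in
include F in
theorem odd_succ : Odd (q + 1) := by
  obtain ⟨k, hk, hq⟩ := UH.exists_pow_eq F q 2
  rw [hq]
  exact (Nat.even_pow.2 ⟨even_two, hk.ne'⟩).add_one

end ModS

open ModS in
theorem exists_UI_SU (h4 : 4 ≤ q) : ∃ D : Dat (SU 3 F q) F q, D.A = ⊤ ∧ UI D := by
  have := UF.finite (F := F) q
  have h2 : (2 : F) = 0 := CharTwo.two_eq_zero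
  obtain ⟨e, e0, ee⟩ := exists_isotropic (F := F) (q := q) (n := 3) (by norm_num)
  obtain ⟨n, f, h⟩ := exists_fr e0 ee
  obtain ⟨ι, hι⟩ := exists_iota h
  obtain ⟨μ, μk, μgen⟩ := exists_gen (F := F) (q := q)
  obtain ⟨β, βN, β3⟩ := exists_beta (F := F) h4
  have β0 : β ≠ 0 := left_ne_zero_of_mul_eq_one βN
  have βi : (σ β)⁻¹ = β := inv_eq_of_mul_eq_one_left βN
  obtain ⟨d0, d0e, d0f⟩ := h.exists_diag μ.ne_zero
  obtain ⟨d1, d1e, d1f⟩ := h.exists_diag β0
  obtain ⟨W, -, -, -, We, Wn, Wf⟩ := h.exists_W h2 one_ne_zero (map_one _)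
  rw [one_smul] at We
  rw [inv_one, one_smul] at Wf
  have hc : ∀ {z : SU 3 F q}, z ∈ 𝐂[(⊤ : Subgroup (SU 3 F q))] ↔ z ∈ center (SU 3 F q) := by
    intro z
    rw [coe_top, centralizer_univ]
  let lam : Fˣ := Units.mk0 (σ β ^ 3) (pow_ne_zero _ (conj_ne_zero.2 β0))
  have hfe : 𝐡 f e ≠ 0 := by rw [h.fe]; exact one_ne_zero
  refine ⟨⟨⊥, ⊤, ⊤, ⊥, ι, d0, d1, W, μ, lam⟩, rfl,
    { four := h4
      inj := inj h hι
      syl := ?_
      h0A := mem_top _
      h1A := mem_top _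
      wA := mem_top _
      act0 := act_diag h hι d0e d0f μ (by rw [μk, sq])
      act1 := act_diag h hι d1e d1f lam ?_
      c01 := ext2 h ?_ ?_
      ord0 := h.eq_one ?_ ?_
      odd1 := ?_
      μk := μk
      μgen := μgen
      lamN := ?_
      lam1 := ?_
      ti := fun g _ x hx x1 hg => ?_
      lin := fun g _ hg => ?_
      cen := fun z _ hz => ?_
      gen := fun K hK hT => ?_
      wT := fun hW => ?_
      w0 := ?_
      w1 := ext2 h ?_ ?_
      bru := fun g _ hg => ?_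
      lin1 := fun a _ ha => ?_ }⟩
  · obtain ⟨P⟩ : Nonempty (Sylow 2 (SU 3 F q)) := inferInstance
    refine (isSyl_top P).of_card_ge (R := ι.range) ?_ le_top ?_
    · exact (UH.isPGroup (F := F) (q := q)).of_equiv (MonoidHom.ofInjective (inj h hι))
    · rw [UH.card_sylow_SU3, ← UH.card (F := F),
        Nat.card_congr (MonoidHom.ofInjective (inj h hι)).toEquiv]
  · simp only [lam, Units.val_mk0]
    linear_combination σ β ^ 2 * βN
  · simp only [mul_smul, d0e, d1e, SU_smul_comm, smul_comm β]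
  · simp only [mul_smul, d0f, d1f, SU_smul_comm, smul_comm (σ β)⁻¹]
  · rw [pow_smul_eigen d0e, (conj_eq_self_iff μ.ne_zero).1 μk, one_smul]
  · rw [pow_smul_eigen d0f, μk, inv_pow, (conj_eq_self_iff μ.ne_zero).1 μk, inv_one, one_smul]
  · have h1 : d1 ^ (q + 1) = 1 := h.eq_one
      (by rw [pow_smul_eigen d1e, ← mul_conj_eq_pow, βN, one_smul])
      (by rw [pow_smul_eigen d1f, βi, ← mul_conj_eq_pow, βN, one_smul])
    exact (odd_succ F q).of_dvd_nat (orderOf_dvd_of_pow_eq_one h1)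
  · simp only [lam, Units.val_mk0, map_pow, conj_conj]
    rw [← mul_pow, mul_comm, βN, one_pow]
  · simp only [lam, Units.val_mk0]
    intro h1
    apply β3
    have := congrArg σ h1
    rwa [map_pow, conj_conj, map_one] at this
  · obtain ⟨l, hl⟩ := eigen_of_conj h hι (g := g⁻¹) hx x1 (by rwa [inv_inv])
    exact (inv_mem_iff (H := 𝐍[ι.range])).1 (mem_N_of_eigen h hι hl)
  · obtain ⟨z, d, l, t, -, -, -, -, hx⟩ := split h hι hg
    exact ⟨t, fun x => ⟨_, hx x, by simp⟩⟩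
  · obtain ⟨c, hz'⟩ := (Class.U.mem_center_iff (by norm_num)).1 (hc.1 hz)
    have h1 := (h.n_of_diag (hz' e) (hz' f)).1
    exact SU_ext fun x => by rw [pow_smul_eigen (hz' x), ← mul_conj_eq_pow, h1, one_smul, one_smul]
  · have : K.Normal := normalizer_eq_top_iff.1 (top_le_iff.1 hK)
    rcases le_center_or_eq_top (n := 3) le_rfl (by omega) K with h1 | h1
    · obtain ⟨x, -, x1⟩ := exists_ne_one (F := F) (q := q)
      obtain ⟨c, hx⟩ := (Class.U.mem_center_iff (by norm_num)).1 (h1 (hT ⟨x, rfl⟩))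
      exact absurd (eq_one_of_eigen h hι hfe (hx f)) x1
    · exact h1.ge
  · obtain ⟨l, hl⟩ := eigen_of_mem_N h hι hW
    apply hfe
    rw [← We]
    change 𝐡 (W • e) e = 0
    rw [hl, herm_smul_left, h.ee, mul_zero]
  · change W * d0 * W⁻¹ = d0⁻¹
    have Wie : W⁻¹ • e = f := by rw [inv_smul_eq_iff, Wf]
    have Wif : W⁻¹ • f = e := by rw [inv_smul_eq_iff, We]
    refine ext2 h ?_ ?_
    · rw [mul_smul, mul_smul, Wie, d0f, SU_smul_comm, Wf, inv_smul_of_eigen μ.ne_zero d0e, μk]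
    · rw [mul_smul, mul_smul, Wif, d0e, SU_smul_comm, We,
        inv_smul_of_eigen (inv_ne_zero (conj_ne_zero.2 μ.ne_zero)) d0f, inv_inv, μk]
  · simp only [mul_smul, d1e, d1f, SU_smul_comm, We, βi]
  · simp only [mul_smul, d1e, d1f, SU_smul_comm, Wf, βi]
  · have hm : 𝐡 (g • e) e ≠ 0 := fun h0 => by
      obtain ⟨l, hl⟩ := iso_par h.e_ne h.ee (by rw [SU_herm, h.ee]) h0
      exact hg (mem_N_of_eigen h hι hl)
    have h1 := h.decomp (g • e)
    have h3 := (h.smul g).ee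
    generalize 𝐡 (g • e) e = m at hm h1
    generalize 𝐡 (g • e) n = c at h1
    generalize 𝐡 (g • e) f = a at h1
    rw [h1, h.herm_comb] at h3
    have hm' : σ m ≠ 0 := conj_ne_zero.2 hm
    let x : UH F q := ⟨c / m, a / m, by
      rw [map_div₀, map_div₀]; field_simp; linear_combination h3⟩
    refine ⟨ι x, ⟨x, rfl⟩, (ι x * W)⁻¹ * g, mem_N_of_eigen h hι (l := m) ?_, by
      change g = ι x * W * ((ι x * W)⁻¹ * g); group⟩
    rw [mul_smul, inv_smul_eq_iff, mul_smul, SU_smul_comm, We, SU_smul_comm, h.unip_f (hι x), h1]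
    simp only [x, smul_add, smul_smul, mul_div_cancel₀ _ hm]
  · obtain ⟨z, d, l, t, hg, he, hf, ht, hx⟩ := split h hι ha.1
    obtain ⟨x, xc, -⟩ := exists_ne_one (F := F) (q := q)
    have h1 : a * ι x * a⁻¹ * (ι x)⁻¹ ∈ 𝐂[ι.range] := (ha.2 _ ⟨x, rfl⟩).2
    rw [hx, ← map_inv, ← map_mul] at h1
    have h3 : z * UH.tor t x * z⁻¹ * x⁻¹ ∈ center (UH F q) :=
      Subgroup.mem_center_iff.2 fun y => inj h hι (by
        rw [map_mul ι y, map_mul ι _ y]; exact h1 _ ⟨y, rfl⟩)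
    rw [UH.mem_center_iff] at h3
    simp only [UH.mul_c, UH.inv_c, UH.tor_c, xc] at h3
    have h5 : (t : F) = 1 := by linear_combination h3
    rw [h5, one_mul] at ht
    have h6 := congrArg σ ht
    rw [map_pow, conj_conj] at h6
    refine ⟨ι z, ⟨z, rfl⟩, hc.2 ?_⟩
    rw [hg, inv_mul_cancel_left]
    exact h.mem_center_of_diag h6 he hf

end Cfsg.Agent.U3S
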