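import Mathlib
import Cfsg.Agent.U3S.BaseD

/-! Consequences of `ST`: the structure of `M` and of its 2-subgroups. -/

set_option autoImplicit false
set_option linter.unusedSectionVars false

namespace Cfsg.Agent.U3S

open Subgroup Cfsg.Agent.PLocal.Amb Cfsg.Agent.Gold Cfsg.Agent.Class.U Cfsg.Agent.Inv
open scoped commutatorElement

variable {G : Type*} [Group G] [Finite G] {F : Type*} [Field F] {q : ℕ} [UF F q] [CharP F 2]
  {D : Dat G F q}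

local notation "σ" => conj F q

theorem bB_card_le_two {W N : Subgroup G} (h : ∀ x ∈ W, ∀ y ∈ W, x ∉ N → y ∉ N → x * y ∈ N) :
    Nat.card W ≤ 2 * Nat.card ↥(W ⊓ N) := by
  classical
  by_cases hW : W ≤ N
  · rw [inf_eq_left.2 hW]; omega
  obtain ⟨x, hx, xN⟩ := SetLike.not_le_iff_exists.1 hW
  have := Nat.card_le_card_of_injective (fun w : W => if hw : (w : G) ∈ N then
    ((false, ⟨w, w.2, hw⟩) : Bool × ↥(W ⊓ N)) else
      (true, ⟨x * w, mul_mem hx w.2, h _ hx _ w.2 xN hw⟩)) (fun a b hab => by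
    by_cases ha : (a : G) ∈ N <;> by_cases hb : (b : G) ∈ N <;>
      simp only [ha, hb, dite_true, dite_false, Prod.mk.injEq, true_and,
        Bool.false_eq_true, Bool.true_eq_false, false_and] at hab
    · exact Subtype.ext (congrArg (fun z : ↥(W ⊓ N) => (z : G)) hab)
    · exact Subtype.ext (mul_left_cancel (congrArg (fun z : ↥(W ⊓ N) => (z : G)) hab)))
  simpa using this

theorem bB_comm_of_sq {x y : G} (hx : x * x = 1) (hy : y * y = 1) (h : x * y * (x * y) = 1) :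
    x * y = y * x := by
  rw [← inv_eq_iff_mul_eq_one] at hx hy h
  rw [← h, mul_inv_rev, hx, hy]

theorem bB_pg {W : Subgroup G} (W2 : ∀ w ∈ W, w * w = 1) : IsPGroup 2 W :=
  isPGroup_iff.2 fun x hx => ⟨1, by rw [pow_one, sq, W2 x hx]⟩

theorem bB_P2_conj {x : G} (h : P2 x) (g : G) : P2 (g * x * g⁻¹) := by
  obtain ⟨k, hk⟩ := h
  exact ⟨k, by rw [conj_pow, hk]; simp⟩

theorem bB_P2_mul {x y : G} (hx : P2 x) (hy : P2 y) (c : x * y = y * x) : P2 (x * y) := by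
  obtain ⟨k, hk⟩ := hx
  obtain ⟨j, hj⟩ := hy
  refine ⟨k + j, ?_⟩
  rw [Commute.mul_pow c, pow_add, pow_mul x, hk, mul_comm, pow_mul y, hj]
  simp

theorem bB_mem_of_sq {O : Subgroup G} {x : G} (h : x * x ∈ O) (h2 : Odd (orderOf x)) : x ∈ O :=
  mem_of_pow_mem_of_coprime (n := 2) (by rwa [sq]) (Nat.coprime_two_right.2 h2)

theorem bB_odd_of_mem {O : Subgroup G} (hO : Odd (Nat.card O)) {x : G} (h : x ∈ O) :
    Odd (orderOf x) :=
  hO.of_dvd_nat (by simpa using orderOf_dvd_natCard (⟨x, h⟩ : O))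

/-- a central Sylow 2-subgroup of `K`, `Q/K` cyclic: `Q'` has odd order -/
theorem bB_gq {Q : Type*} [Group Q] [Finite Q] {K E : Subgroup Q} [K.Normal] (hE : IsSyl 2 E K)
    (c : E ≤ center Q) {r : Q} (hr : ∀ x, ∃ k : ℕ, x * (r ^ k)⁻¹ ∈ K) {x : Q}
    (hx : x ∈ commutator Q) (h2 : P2 x) : x = 1 := by
  obtain ⟨O, hO, OK, nO, KO⟩ := burn hE fun y _ e he => (mem_center_iff.1 (c he) y).symm
  have dec : ∀ y ∈ K, ∃ o ∈ O, ∃ e ∈ E, y = o * e := fun y hy =>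
    (mem_sup_of_le_normalizer_left (hE.le.trans nO)).1 (KO hy)
  have : O.Normal := ⟨fun o ho g => by
    obtain ⟨o', ho', e, he, h⟩ := dec _ (Normal.conj_mem inferInstance _ (OK ho) g)
    obtain ⟨j, hj⟩ := isPGroup_iff.1 hE.pgrp e he
    refine mem_of_pow_mem_of_coprime (n := 2 ^ j) ?_ ?_
    · rw [h, Commute.mul_pow (mem_center_iff.1 (c he) o'), hj, mul_one]
      exact pow_mem ho' _
    · rw [PLocal.Amb.orderOf_conj']
      exact Nat.Coprime.pow_right _ (Nat.coprime_two_right.2 (bB_odd_of_mem hO ho))⟩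
  have key : commutator Q ≤ O := by
    rw [commutator_def, commutator_le]
    intro a _ b _
    have f : ∀ y : Q, ∃ k : ℕ, ∃ e ∈ E, QuotientGroup.mk' O y = QuotientGroup.mk' O (e * r ^ k) :=
      fun y => by
        obtain ⟨k, hk⟩ := hr y
        obtain ⟨o, ho, e, he, h⟩ := dec _ hk
        refine ⟨k, e, he, ?_⟩
        rw [mul_inv_eq_iff_eq_mul.1 h, mul_assoc, map_mul,
          show QuotientGroup.mk' O o = 1 from (QuotientGroup.eq_one_iff _).2 ho, one_mul]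
    obtain ⟨k, e, he, h1⟩ := f a
    obtain ⟨j, e', he', h2⟩ := f b
    rw [← QuotientGroup.eq_one_iff, ← QuotientGroup.mk'_apply, map_commutatorElement, h1, h2,
      ← map_commutatorElement, commutatorElement_eq_one_iff_commute.2, map_one]
    have c1 : ∀ y, Commute y e := fun y => mem_center_iff.1 (c he) y
    have c2 : ∀ y, Commute y e' := fun y => mem_center_iff.1 (c he') y
    exact Commute.mul_left (c1 _).symm (Commute.mul_right (c2 _) (Commute.pow_pow_self r k j))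
  exact eq_one_of_isPGroup_of_coprime (isPGroup_zpowers h2) (mem_zpowers x)
    (Nat.coprime_two_right.2 (bB_odd_of_mem hO (key hx)))

namespace ST

variable (H : ST D)
include H

theorem cnj (g : G) : ST (D.cnj g) := by
  have eE : (D.cnj g).E = cj(g, D.E) := rfl
  have eM : (D.cnj g).M = cj(g, D.M) := rfl
  have eA : (D.cnj g).A = cj(g, D.A) := rfl
  have eO : (D.cnj g).O = cj(g, D.O) := rfl
  refine
    { H.toUA.cnj g with
      E2 := fun e he => ?_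
      E1 := fun h => H.E1 (cj_eq_bot.1 h)
      cent := fun e he e1 => ?_
      AM := cj_mono g H.AM
      MA := by rw [eM, eA, normalizer_cj]; exact cj_mono g H.MA
      oddO := by rw [eO, card_cj]; exact H.oddO
      OM := by rw [eO, eM, eA, centralizer_cj, ← cj_inf]; exact cj_mono g H.OM
      dec := fun x hx h => ?_ }
  · obtain ⟨y, hy, rfl⟩ := mem_cj_iff_exists.1 he
    rw [show g * y * g⁻¹ * (g * y * g⁻¹) = g * (y * y) * g⁻¹ by group, H.E2 y hy]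
    group
  · obtain ⟨y, hy, rfl⟩ := mem_cj_iff_exists.1 he
    rw [centralizer_singleton_conj, H.cent y hy (fun h => e1 (by simp [h])), eM]
  · rw [eA, centralizer_cj, mem_cj] at h
    obtain ⟨e, he, o, ho, h⟩ := H.dec _ (mem_cj.1 hx) h
    refine ⟨_, conj_mem_cj g he, _, conj_mem_cj g ho, ?_⟩
    rw [show x = g * (g⁻¹ * x * g) * g⁻¹ by group, h]
    group

theorem ME : D.M ≤ 𝐂[D.E] := by
  intro m hm e he
  rcases eq_or_ne e 1 with rfl | e1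
  · simp
  · rw [← H.cent e he e1] at hm
    exact hm e rfl

theorem EM : D.E ≤ D.M := by
  intro e he
  obtain ⟨⟨e0, h0⟩, e1⟩ := (ne_bot_iff_exists_ne_one.1 H.E1)
  rw [← H.cent e0 h0 (fun h => e1 (Subtype.ext h)), mem_centralizer_singleton_iff]
  exact bB_comm_of_sq (H.E2 _ he) (H.E2 _ h0) (H.E2 _ (mul_mem he h0))

theorem EA : D.E ≤ 𝐂[D.A] := by
  exact le_centralizer_iff.1 (H.AM.trans H.ME)

theorem pE : IsPGroup 2 D.E := by
  exact bB_pg H.E2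

theorem two {x : G} (hx : x ∈ D.M) (h : x ∈ 𝐂[D.A]) (h2 : P2 x) : x ∈ D.E := by
  obtain ⟨e, he, o, ho, rfl⟩ := H.dec x hx h
  rw [eq_one_of_P2 H.oddO ho (isPGroup_iff.1 H.pE e he) (H.ME (H.OM ho).1 e he) h2, mul_one]
  exact he

theorem mem_O {x : G} (hx : x ∈ D.M) (h : x ∈ 𝐂[D.A]) (h2 : Odd (orderOf x)) : x ∈ D.O := by
  obtain ⟨e, he, o, ho, rfl⟩ := H.dec x hx h
  refine bB_mem_of_sq ?_ h2
  rw [show e * o * (e * o) = e * (o * e) * o by group, ← H.ME (H.OM ho).1 e he,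
    show e * (e * o) * o = e * e * (o * o) by group, H.E2 e he, one_mul]
  exact mul_mem ho ho

theorem MO : D.M ≤ 𝐍[D.O] := by
  refine le_normalizer_iff_cj.2 fun g hg => cj_le_iff_forall.2 fun o ho => H.mem_O ?_ ?_ ?_
  · exact mul_mem (mul_mem hg (H.OM ho).1) (inv_mem hg)
  · exact conj_mem_of_mem_normalizer (normalizer_le_normalizer_centralizer _ (H.MA hg)) (H.OM ho).2
  · rw [PLocal.Amb.orderOf_conj']
    exact bB_odd_of_mem H.oddO ho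

theorem E_inf_A {e : G} (he : e ∈ D.E) (h : e ∈ D.A) : e = 1 := by
  exact H.odd_cen h (H.EA he) (isPGroup_iff.1 H.pE e he)

theorem TB : D.T ≤ D.B := by
  exact le_inf (H.TA.trans H.AM) le_normalizer

theorem bB_ET : D.E ≤ 𝐂[D.T] := H.EA.trans (centralizer_anti H.TA)

theorem bB_OT : D.O ≤ 𝐂[D.T] := fun _ ho => centralizer_anti H.TA (H.OM ho).2

theorem EB : D.E ≤ D.B := by
  exact le_inf H.EM (H.bB_ET.trans (centralizer_le_normalizer' _))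

theorem OB : D.O ≤ D.B := by
  exact le_inf (fun _ ho => (H.OM ho).1) (H.bB_OT.trans (centralizer_le_normalizer' _))

theorem h0B : D.h0 ∈ D.B := by
  exact ⟨H.AM H.h0A, H.h0N⟩

theorem h1B : D.h1 ∈ D.B := by
  exact ⟨H.AM H.h1A, H.h1N⟩

theorem bB_MNE : D.M ≤ 𝐍[D.E] := H.ME.trans (centralizer_le_normalizer' _)

theorem bB_card_sup {R : Subgroup G} (h : R ≤ D.A) :
    Nat.card ↥(R ⊔ D.E) = Nat.card D.E * Nat.card R := by
  have e := Grp.card_sup_mul_card_inf_of_le_normalizer ((h.trans H.AM).trans H.bB_MNE)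
  have : R ⊓ D.E = ⊥ := eq_bot_iff.2 fun x hx => H.E_inf_A hx.2 (h hx.1)
  rwa [this, card_bot, mul_one, mul_comm] at e

theorem bB_mem_TE {x : G} : x ∈ D.T ⊔ D.E ↔ ∃ t ∈ D.T, ∃ e ∈ D.E, x = t * e :=
  mem_sup_of_le_normalizer_right ((H.TA.trans H.AM).trans H.bB_MNE)

theorem bB_pTE : IsPGroup 2 ↥(D.T ⊔ D.E) :=
  isPGroup_sup H.pT H.pE ((H.TA.trans H.AM).trans H.bB_MNE)

theorem bB_TE_N1 : D.T ⊔ D.E ≤ D.N1 := sup_le H.T_le_N1 (H.bB_ET.trans C_le_N1)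

theorem bB_TE_EA : D.T ⊔ D.E ≤ D.E ⊔ D.A := sup_le (H.TA.trans le_sup_right) le_sup_left

theorem card_TE : Nat.card ↥(D.T ⊔ D.E) = Nat.card D.E * q ^ 3 := by
  rw [H.bB_card_sup H.TA, H.card_T]

theorem card_EZ : Nat.card ↥(D.E ⊔ D.Z) = Nat.card D.E * q := by
  rw [sup_comm, H.bB_card_sup (Z_le_T.trans H.TA), H.card_Z]

/-- `rig`, `dec` -/
theorem n1B {g : G} (hg : g ∈ D.M) (h : g ∈ D.N1) :
    ∃ x ∈ D.T, ∃ e ∈ D.E, ∃ o ∈ D.O, g = x * e * o := by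
  obtain ⟨x, hx, h1⟩ := H.rig g (H.MA hg) h
  obtain ⟨e, he, o, ho, h2⟩ := H.dec (x⁻¹ * g) (mul_mem (inv_mem (H.AM (H.TA hx))) hg) fun a ha => by
    rw [show x⁻¹ * g * a = x⁻¹ * (g * a * g⁻¹) * g by group, h1 a ha]
    group
  exact ⟨x, hx, e, he, o, ho, by rw [mul_assoc, ← h2]; group⟩

theorem triv {g : G} (hg : g ∈ D.M) (h : g ∈ D.N1) (h2 : P2 g) : g ∈ D.T ⊔ D.E := by
  obtain ⟨x, hx, e, he, o, ho, rfl⟩ := H.n1B hg h
  have h1 : x * e ∈ D.T ⊔ D.E := mul_mem_sup hx he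
  rw [eq_one_of_P2 H.oddO ho (isPGroup_iff.1 H.bB_pTE _ h1) ?_ h2, mul_one]
  · exact h1
  · rw [mul_assoc, H.ME (H.OM ho).1 e he, ← mul_assoc, H.bB_OT ho x hx, mul_assoc]

theorem c0M {g : G} (hg : g ∈ D.M) (h : g ∈ 𝐂[D.T]) :
    ∃ z ∈ D.Z, ∃ e ∈ D.E, ∃ o ∈ D.O, g = z * e * o := by
  obtain ⟨x, hx, e, he, o, ho, rfl⟩ := H.n1B hg (C_le_N1 h)
  refine ⟨x, ⟨hx, ?_⟩, e, he, o, ho, rfl⟩
  rwa [mul_mem_cancel_right (H.bB_OT ho), mul_mem_cancel_right (H.bB_ET he)] at h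

theorem c0M2 {g : G} (hg : g ∈ D.M) (h : g ∈ 𝐂[D.T]) (h2 : P2 g) : g ∈ D.E ⊔ D.Z := by
  obtain ⟨x, hx, e, he, rfl⟩ := H.bB_mem_TE.1 (H.triv hg (C_le_N1 h) h2)
  rw [mul_mem_cancel_right (H.bB_ET he)] at h
  rw [sup_comm]
  exact mul_mem_sup (show x ∈ D.Z from ⟨hx, h⟩) he

theorem c0O {g : G} (hg : g ∈ D.M) (h : g ∈ 𝐂[D.T]) (h2 : Odd (orderOf g)) : g ∈ D.O := by
  obtain ⟨z, hz, e, he, o, ho, rfl⟩ := H.c0M hg h
  refine bB_mem_of_sq ?_ h2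
  have c1 : Commute z e := H.bB_ET he z hz.1
  have c2 : Commute z o := H.bB_OT ho z hz.1
  have c3 : Commute e o := H.ME (H.OM ho).1 e he
  rw [← sq, (c2.mul_left c3).mul_pow, c1.mul_pow, sq, sq, H.sqZ hz, H.E2 e he, one_mul, one_mul]
  exact pow_mem ho 2

theorem invTE {x : G} (hx : x ∈ D.T ⊔ D.E) (h : x * x = 1) : x ∈ D.E ⊔ D.Z := by
  obtain ⟨t, ht, e, he, rfl⟩ := H.bB_mem_TE.1 hx
  have c1 : Commute t e := H.bB_ET he t ht
  rw [← sq, c1.mul_pow, sq, sq, H.E2 e he, mul_one] at h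
  rw [sup_comm]
  exact mul_mem_sup (H.invT ht h) he

/-- COMM. `M = A B` (Frattini). `Φ : M → Aut F`, `a b ↦ φ_b`, is well defined by `lin`; let `K` be its
kernel. For `x = a b ∈ K`, `b^(q²-1) ∈ N1`, so by `n1B` an odd power of `x` lies in `A E`: `EA/A` is
a central Sylow 2-subgroup of `K/A`. `K₁ = {x ∈ K | an odd power of x lies in A}` is a subgroup
(Burnside or Schur–Zassenhaus in `K/A`), normal in `M`, `K = K₁ E`, and `M/K₁` is cyclic modulo the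
central image of `E`, so abelian (`commutative_of_cyclic_center_quotient`). A 2-element of `K₁` lies
in `A`. (One may also work in `B`: `M' ≤ A B'`.) -/
theorem comm {x : G} (hx : x ∈ ⁅D.M, D.M⁆) (h2 : P2 x) : x ∈ D.A := by
  obtain ⟨Φ, hΦ⟩ := H.bA_hom
  have : (D.A.subgroupOf D.M).Normal := normal_subgroupOf' H.MA
  have BM : D.B ≤ D.M := inf_le_left
  have BN : D.B ≤ 𝐍[D.T] := inf_le_right
  let π := QuotientGroup.mk' (D.A.subgroupOf D.M)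
  have hπ : ∀ y : D.M, π y = 1 ↔ (y : G) ∈ D.A := fun y => QuotientGroup.eq_one_iff _
  let f : D.B →* _ := π.comp (inclusion BM)
  have fs : Function.Surjective f := fun y => by
    obtain ⟨m, rfl⟩ := QuotientGroup.mk'_surjective _ y
    obtain ⟨a, ha, b, hb, h⟩ := H.syl.frattini (H.MA m.2)
    have bM : b ∈ D.M := by
      have := m.2
      rwa [h, mul_mem_cancel_left (H.AM ha)] at this
    refine ⟨⟨b, bM, hb⟩, ?_⟩
    have : m = ⟨a, H.AM ha⟩ * ⟨b, bM⟩ := Subtype.ext h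
    rw [this, map_mul, show QuotientGroup.mk' _ (⟨a, H.AM ha⟩ : D.M) = 1 from (hπ _).2 ha, one_mul]
    rfl
  let Ψ : D.B →* (F ≃+* F) := Φ.comp (inclusion BN)
  have hk : ∀ y : D.B, Ψ y = 1 → P2 (y : G) → (y : G) ∈ D.T ⊔ D.E := fun y hy h2 => by
    obtain ⟨l, hl⟩ := hΦ (inclusion BN y)
    rw [show Φ (inclusion BN y) = 1 from hy] at hl
    exact H.triv y.2.1 (H.two_lin h2 hl) h2
  have hS : IsSyl 2 ((D.T ⊔ D.E).subgroupOf D.B) Ψ.ker :=
    ⟨fun y hy => by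
      obtain ⟨l, hl⟩ := hΦ (inclusion BN y)
      have := (H.act_uniq hl (H.mem_N1_iff.1 (H.bB_TE_N1 hy))).2 l.ne_zero
      exact RingEquiv.ext fun x => RingHom.congr_fun this x,
    isPGroup_subgroupOf H.bB_pTE _, fun R hR _ h y hy => by
      obtain ⟨k, hk'⟩ := isPGroup_iff.1 hR y hy
      exact hk y (h hy) ⟨k, congrArg Subtype.val hk'⟩⟩
  have : (Ψ.ker.map f).Normal := Normal.map inferInstance f fs
  have := (UF.finite (F := F) q)
  have : Finite (F ≃+* F) := Finite.of_injective _ (DFunLike.coe_injective (F := F ≃+* F))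
  have : IsCyclic (F ≃+* F) := by
    obtain ⟨n, -, hn⟩ := H.exists_pow
    obtain ⟨-, φ, -, -, hφ⟩ := UH.exists_frob (F := F) (m := n * 2)
      (by rw [UF.card_eq (q := q), hn, pow_mul])
    exact ⟨φ, fun ψ => by obtain ⟨i, -, rfl⟩ := hφ ψ; exact ⟨i, zpow_natCast φ i⟩⟩
  obtain ⟨⟨_, r, rfl⟩, hr⟩ := IsCyclic.exists_generator (α := Ψ.range)
  rw [← map_subtype_commutator] at hx
  obtain ⟨x, hx, rfl⟩ := hx
  refine (hπ x).1 (bB_gq (hS.map f) ?_ (r := f r) ?_ ?_ ?_)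
  · rintro _ ⟨y, hy, rfl⟩
    obtain ⟨t, ht, e, he, h⟩ := H.bB_mem_TE.1 hy
    have : inclusion BM y = ⟨t, H.AM (H.TA ht)⟩ * ⟨e, H.EM he⟩ := Subtype.ext h
    rw [show f y = π (inclusion BM y) from rfl, this, map_mul, (hπ _).2 (H.TA ht), one_mul,
      Subgroup.mem_center_iff]
    intro m
    obtain ⟨m, rfl⟩ := QuotientGroup.mk'_surjective _ m
    rw [← map_mul, ← map_mul]
    congr 1
    exact Subtype.ext (H.ME m.2 e he).symm
  · intro y
    obtain ⟨y, rfl⟩ := fs y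
    obtain ⟨k, hk'⟩ := (mem_powers_iff_mem_zpowers.2 (hr ⟨Ψ y, _, rfl⟩))
    have e : Ψ r ^ k = Ψ y := congrArg Subtype.val hk'
    refine ⟨k, y * (r ^ k)⁻¹, ?_, by rw [map_mul, map_inv, map_pow]⟩
    change Ψ _ = 1
    rw [map_mul, map_inv, map_pow, e, mul_inv_cancel]
  · have := mem_map_of_mem π hx
    rw [_root_.commutator_def, map_commutator] at this
    exact commutator_mono le_top le_top this
  · obtain ⟨k, hk⟩ := h2
    exact ⟨k, by rw [← map_pow, show x ^ 2 ^ k = 1 from Subtype.ext hk, map_one]⟩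

/-- `R ≤ S` Sylow in `M`, `S ⊓ A` is Sylow in `A`, so `A`-conjugate to `T` -/
theorem into {R : Subgroup G} (hR : IsPGroup 2 R) (h : R ≤ D.M) : ∃ a ∈ D.A, cj(a, R) ≤ D.B := by
  obtain ⟨S, hS, RS⟩ := exists_isSyl_ge hR h
  obtain ⟨a, ha, e⟩ := H.syl.exists_cj_eq (hS.inf_of_le H.AM H.MA)
  refine ⟨a, ha, le_inf (cj_le_of_mem h (H.AM ha)) ?_⟩
  rw [← e, normalizer_cj]
  exact cj_mono a (RS.trans (le_normalizer_inf le_normalizer (hS.le.trans H.MA)))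

theorem inEA {x : G} (hx : x ∈ D.B) (h2 : P2 x) : x ∈ D.E ⊔ D.A ↔ x ∈ D.T ⊔ D.E := by
  refine ⟨fun h => ?_, fun h => H.bB_TE_EA h⟩
  rw [sup_comm] at h
  obtain ⟨a, ha, e, he, rfl⟩ := (mem_sup_of_le_normalizer_right (H.AM.trans H.bB_MNE)).1 h
  refine mul_mem_sup ?_ he
  have h3 : P2 a := by
    have := bB_P2_mul h2 (isPGroup_iff.1 H.pE e he) (H.ME hx.1 e he).symm
    rwa [mul_assoc, H.E2 e he, mul_one] at this
  rw [mul_mem_cancel_right (H.EB he)] at hx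
  exact H.syl.le_of_normalizes (isPGroup_zpowers h3) (zpowers_le.2 ha) (zpowers_le.2 hx.2)
    (mem_zpowers a)

theorem bB_nEA : D.M ≤ 𝐍[D.E ⊔ D.A] := le_normalizer_sup H.bB_MNE H.MA

theorem cycM {R : Subgroup G} (hR : IsPGroup 2 R) (h : R ≤ D.M) :
    ∃ r ∈ R, ∀ x ∈ R, ∃ k : ℕ, x * (r ^ k)⁻¹ ∈ D.E ⊔ D.A := by
  obtain ⟨a, ha, hB⟩ := H.into hR h
  obtain ⟨⟨r, hr, h1⟩, -⟩ := H.cyc (isPGroup_cj a hR) (hB.trans inf_le_right)
  obtain ⟨r, hr', rfl⟩ := mem_cj_iff_exists.1 hr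
  refine ⟨r, hr', fun x hx => ?_⟩
  obtain ⟨k, hk⟩ := h1 _ (conj_mem_cj a hx)
  refine ⟨k, ?_⟩
  have h3 : a * x * a⁻¹ * ((a * r * a⁻¹) ^ k)⁻¹ ∈ cj(a, R) :=
    mul_mem (conj_mem_cj a hx) (inv_mem (pow_mem hr k))
  have := inv_conj_mem_of_mem_normalizer (H.bB_nEA (H.AM ha))
    (H.bB_TE_EA (H.triv (hB h3).1 hk (isPGroup_iff.1 (isPGroup_cj a hR) _ h3)))
  rwa [conj_pow, show a⁻¹ * (a * x * a⁻¹ * (a * r ^ k * a⁻¹)⁻¹) * a = x * (r ^ k)⁻¹ by group] at this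

theorem bB_W0 {W : Subgroup G} (h : W ≤ D.B) (W2 : ∀ w ∈ W, w * w = 1) :
    W ⊓ D.N1 ≤ D.E ⊔ D.Z ∧ Nat.card W ≤ 2 * Nat.card ↥(W ⊓ D.N1) := by
  have pW := isPGroup_iff.1 (bB_pg W2)
  refine ⟨fun x hx => H.invTE (H.triv (h hx.1).1 hx.2 (pW x hx.1)) (W2 x hx.1),
    bB_card_le_two fun x hx y hy x1 y1 => H.gam_gam ?_ ?_ (pW _ (mul_mem hx hy))⟩
  · exact (H.of_sq (pW x hx) (h hx).2 (by rw [W2 x hx]; exact one_mem _)).resolve_left x1
  · exact (H.of_sq (pW y hy) (h hy).2 (by rw [W2 y hy]; exact one_mem _)).resolve_left y1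

omit H in
theorem bB_sq_cj {W : Subgroup G} (W2 : ∀ w ∈ W, w * w = 1) (a : G) :
    ∀ w ∈ cj(a, W), w * w = 1 := fun w hw => by
  obtain ⟨y, hy, rfl⟩ := mem_cj_iff_exists.1 hw
  rw [show a * y * a⁻¹ * (a * y * a⁻¹) = a * (y * y) * a⁻¹ by group, W2 y hy]
  group

/-- conjugate into `B`; `W ⊓ TE ≤ EZ` has index at most 2 (`of_sq`, `gam_gam`) -/
theorem rank {W : Subgroup G} (h : W ≤ D.M) (W2 : ∀ w ∈ W, w * w = 1) :
    Nat.card W ≤ 2 * (Nat.card D.E * q) := by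
  obtain ⟨a, -, hB⟩ := H.into (bB_pg W2) h
  obtain ⟨h1, h2⟩ := H.bB_W0 hB (bB_sq_cj W2 a)
  rw [← card_cj a W, ← H.card_EZ]
  exact h2.trans (Nat.mul_le_mul_left 2 (card_le_of_le h1))

theorem om {R : Subgroup G} (hR : IsPGroup 2 R) (h : R ≤ D.E ⊔ D.A) :
    Nat.card R ≤ Nat.card D.E * q ^ 3 ∧ {x | x ∈ R ∧ x * x = 1}.ncard ≤ Nat.card D.E * q ∧
      (R ≤ 𝐂[R] → Nat.card R ≤ Nat.card D.E * q ^ 2) := by
  obtain ⟨a, ha, hB⟩ := H.into hR (h.trans (sup_le H.EM H.AM))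
  have h1 : cj(a, R) ≤ D.T ⊔ D.E := fun x hx =>
    (H.inEA (hB hx) (isPGroup_iff.1 (isPGroup_cj a hR) x hx)).1
      (cj_le_of_mem_normalizer h (H.bB_nEA (H.AM ha)) hx)
  refine ⟨?_, ?_, fun ab => ?_⟩
  · rw [← card_cj a R, ← H.card_TE]
    exact card_le_of_le h1
  · rw [← H.card_EZ, ← SetLike.coe_sort_coe, Nat.card_coe_set_eq]
    refine Set.ncard_le_ncard_of_injOn (fun x => a * x * a⁻¹) (fun x hx => ?_)
      (fun x _ y _ e => by simpa using e)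
    refine H.invTE (h1 (conj_mem_cj a hx.1)) ?_
    rw [show a * x * a⁻¹ * (a * x * a⁻¹) = a * (x * x) * a⁻¹ by group, hx.2]
    group
  · have ab' : cj(a, R) ≤ 𝐂[cj(a, R)] := by rw [centralizer_cj]; exact cj_mono a ab
    have cE : cj(a, R) ≤ 𝐂[D.E] := (hB.trans inf_le_left).trans H.ME
    have ab2 : cj(a, R) ⊔ D.E ≤ 𝐂[cj(a, R) ⊔ D.E] := by
      rw [centralizer_sup]
      exact sup_le (le_inf ab' cE) (le_inf (le_centralizer_iff.1 cE) (H.EM.trans H.ME))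
    have h2 := H.card_ab (R := (cj(a, R) ⊔ D.E) ⊓ D.T) inf_le_right
      ((inf_le_left.trans ab2).trans (centralizer_anti inf_le_left))
    have h3 : cj(a, R) ≤ ((cj(a, R) ⊔ D.E) ⊓ D.T) ⊔ D.E := fun x hx => by
      obtain ⟨t, ht, e, he, rfl⟩ := H.bB_mem_TE.1 (h1 hx)
      refine mul_mem_sup ⟨?_, ht⟩ he
      exact (mul_mem_cancel_right (mem_sup_right he)).1 (mem_sup_left hx)
    rw [← card_cj a R]
    refine (card_le_of_le h3).trans ?_
    rw [H.bB_card_sup (inf_le_right.trans H.TA)]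
    exact Nat.mul_le_mul_left _ h2

theorem bB_maxe {W R : Subgroup G} (h : W ≤ D.B) (W2 : ∀ w ∈ W, w * w = 1)
    (c : Nat.card W = 2 * (Nat.card D.E * q)) (hR : IsPGroup 2 R) (RB : R ≤ D.B)
    (RW : R ≤ 𝐂[W]) : Nat.card R ≤ 2 * (Nat.card D.E * q) := by
  obtain ⟨h1, h2⟩ := H.bB_W0 h W2
  rw [← H.card_EZ] at c ⊢
  have h3 : W ⊓ D.N1 = D.E ⊔ D.Z := eq_of_le_of_card_ge h1 (by omega)
  have ZW : D.Z ≤ W := (le_sup_right.trans h3.ge).trans inf_le_left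
  have h4 : ¬ W ≤ D.N1 := fun h4 => by
    rw [inf_eq_left.2 h4] at h3
    have := Nat.card_pos (α := W)
    rw [← h3] at c
    omega
  obtain ⟨s, hs, s1⟩ := SetLike.not_le_iff_exists.1 h4
  have hg := (H.of_sq (isPGroup_iff.1 (bB_pg W2) s hs) (h hs).2
    (by rw [W2 s hs]; exact one_mem _)).resolve_left s1
  have pR := isPGroup_iff.1 hR
  have h5 : R ⊓ D.N1 ≤ D.E ⊔ D.Z := fun x hx => by
    obtain ⟨t, ht, e, he, rfl⟩ := H.bB_mem_TE.1 (H.triv (RB hx.1).1 hx.2 (pR x hx.1))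
    rw [sup_comm]
    refine mul_mem_sup (H.gam_cent hg (by rw [W2 s hs]; exact one_mem _) ht ?_) he
    have e1 := RW hx.1 s hs
    rw [mul_assoc, H.ME (h hs).1 e he, ← mul_assoc, ← mul_assoc] at e1
    exact mul_right_cancel e1
  refine (bB_card_le_two fun x hx y hy x1 y1 => H.gam_gam ?_ ?_ (pR _ (mul_mem hx hy))).trans
    (Nat.mul_le_mul_left 2 (card_le_of_le h5))
  · exact (H.of_cent (pR x hx) (RB hx).2 (centralizer_anti ZW (RW hx))).resolve_left x1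
  · exact (H.of_cent (pR y hy) (RB hy).2 (centralizer_anti ZW (RW hy))).resolve_left y1

/-- MAXE. Conjugate `R W` into `B`. Then `EZ ≤ W` and `W` contains `s` of graph type. `R` centralizes
`Z`, so `R ⊓ TE` has index at most 2 (`of_cent`, `gam_gam`), and `R ⊓ TE ≤ C_{TE}(s) = EZ`. -/
theorem maxe {W R : Subgroup G} (h : W ≤ D.M) (W2 : ∀ w ∈ W, w * w = 1)
    (c : Nat.card W = 2 * (Nat.card D.E * q)) (hR : IsPGroup 2 R) (RM : R ≤ D.M ⊓ 𝐂[W]) :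
    Nat.card R ≤ 2 * (Nat.card D.E * q) := by
  obtain ⟨a, -, hB⟩ := H.into (isPGroup_sup hR (bB_pg W2)
    ((RM.trans inf_le_right).trans (centralizer_le_normalizer' _))) (sup_le (RM.trans inf_le_left) h)
  rw [cj_sup, sup_le_iff] at hB
  rw [← card_cj a R]
  refine H.bB_maxe hB.2 (bB_sq_cj W2 a) (by rw [card_cj, c]) (isPGroup_cj a hR) hB.1 ?_
  rw [centralizer_cj]
  exact cj_mono a (RM.trans inf_le_right)

theorem bB_sz {R : Subgroup G} (hR : IsPGroup 2 R) (h : R ≤ D.B) (c : ∀ x ∈ R, x * x ∈ 𝐂[R]) :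
    R ≤ D.E ⊔ D.A ∨ R ⊓ (D.E ⊔ D.A) ≤ 𝐂[R ⊓ (D.E ⊔ D.A)] := by
  have pR := isPGroup_iff.1 hR
  by_cases h1 : R ≤ D.N1
  · exact Or.inl fun x hx => H.bB_TE_EA (H.triv (h hx).1 (h1 hx) (pR x hx))
  right
  obtain ⟨r, hr, r1⟩ := SetLike.not_le_iff_exists.1 h1
  obtain ⟨k, l, -, hl⟩ := H.exists_gam (pR r hr) (h hr).2 r1
  have hs := pow_mem hr k
  generalize r ^ k = s at hs hl
  have dec : ∀ x ∈ R ⊓ (D.E ⊔ D.A), ∃ u : UH F q, ∃ e ∈ D.E, x = D.ι u * e := fun x hx => by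
    obtain ⟨_, ⟨u, rfl⟩, e, he, rfl⟩ := H.bB_mem_TE.1 ((H.inEA (h hx.1) (pR x hx.1)).1 hx.2)
    exact ⟨u, e, he, rfl⟩
  have cm : ∀ u v : UH F q, ∀ e ∈ D.E, ∀ e' ∈ D.E,
      (D.ι u * e * (D.ι v * e') = D.ι v * e' * (D.ι u * e) ↔ v.c * σ u.c = u.c * σ v.c) := by
    intro u v e he e' he'
    have c1 : Commute (D.ι v) e := H.bB_ET he _ (ι_mem v)
    have c2 : Commute (D.ι u) e' := H.bB_ET he' _ (ι_mem u)
    have c3 : Commute e e' := H.ME (H.EM he') e he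
    rw [c1.symm.mul_mul_mul_comm, c2.symm.mul_mul_mul_comm, c3.eq, mul_left_inj, ← map_mul,
      ← map_mul, H.inj.eq_iff, UH.mul_comm_iff]
  have key : ∀ u : UH F q, ∀ e ∈ D.E, D.ι u * e ∈ R → ∀ v : UH F q, ∀ e' ∈ D.E, D.ι v * e' ∈ R →
      v.c * σ (u.c + l * σ u.c) = (u.c + l * σ u.c) * σ v.c := by
    intro u e he hu v e' he' hv
    obtain ⟨y, hy, hy'⟩ := hl u
    have h2 := mul_mem (c _ (mul_mem hu hs)) (inv_mem (c _ hs))
    have c1 : Commute s e := (H.ME (h hs).1 e he).symm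
    have c2 : Commute (D.ι y) e := H.bB_ET he _ (ι_mem y)
    have h3 : D.ι u * e * s * (D.ι u * e * s) * (s * s)⁻¹ = D.ι (u * y) * 1 := by
      rw [show D.ι u * e * s * (D.ι u * e * s) * (s * s)⁻¹ =
        D.ι u * e * (s * D.ι u * s⁻¹) * (s * e * s⁻¹) by group, hy, c1.eq, mul_inv_cancel_right,
        mul_assoc (D.ι u), ← c2.eq, map_mul, mul_assoc, mul_assoc, H.E2 e he, mul_one, mul_one]
    rw [h3] at h2
    have := (cm _ _ _ (one_mem _) _ he').1 (h2 _ hv).symm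
    rwa [UH.mul_c, hy'] at this
  intro x hx y hy
  obtain ⟨u, e, he, rfl⟩ := dec x hx
  obtain ⟨v, e', he', rfl⟩ := dec y hy
  rw [cm _ _ _ he' _ he]
  have h2 : (2 : F) = 0 := CharTwo.two_eq_zero
  by_cases hu : u.c + l * σ u.c = 0
  · by_cases hv : v.c + l * σ v.c = 0
    · linear_combination σ v.c * hu - σ u.c * hv
    · have e1 := key v e' he' hy.1 u e he hx.1
      have e2 := key v e' he' hy.1 v e' he' hy.1
      generalize v.c + l * σ v.c = d at hv e1 e2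
      refine mul_left_cancel₀ hv ?_
      linear_combination v.c * e1 - u.c * e2
  · have e1 := key u e he hx.1 u e he hx.1
    have e2 := key u e he hx.1 v e' he' hy.1
    generalize u.c + l * σ u.c = d at hu e1 e2
    refine mul_left_cancel₀ hu ?_
    linear_combination v.c * e1 - u.c * e2

/-- SZ. Conjugate into `B`; `R₀ = R ⊓ TE`, `R = R₀⟨r⟩` (`cyc`), `r ∉ TE`. For `s` of graph type with
`s² = y e` (`y ∈ T`), `C_T(s) ≤ Z⟨y⟩`: an element of `T1 s` is `x = u u^s z`, and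
`x x^s = [u, y]`, so if `x^s = x` then `N(c') = Tr(d σ y.c)`, i.e. `c' ∈ {0, y.c}` (`c' = d + l σ d`;
`y.c` lies on the same line). If `r² ∉ TE`, a power `s` of `r²` has graph type and is central in `R`,
so `R₀ ≤ E Z⟨y⟩` is abelian. If `r² ∈ TE`, `s = r`: for `u ∈ R₀`, `v = u^r u = (r u)² r⁻²`-like is
central in `R`, with `c(v) = c + l σ c ∈ {0, y.c}`; if some `c(v) ≠ 0`, then `R₀` centralizes `v`, so
its image lies on the line of fixed points and `c(v) = 0`. So the image of `R₀` lies on the line and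
`R₀` is abelian. -/
theorem sz {R : Subgroup G} (hR : IsPGroup 2 R) (h : R ≤ D.M) (c : ∀ x ∈ R, x * x ∈ 𝐂[R]) :
    R ≤ D.E ⊔ D.A ∨ R ⊓ (D.E ⊔ D.A) ≤ 𝐂[R ⊓ (D.E ⊔ D.A)] := by
  obtain ⟨a, ha, hB⟩ := H.into hR h
  have e := cj_of_mem_normalizer (H.bB_nEA (H.AM ha))
  have := H.bB_sz (isPGroup_cj a hR) hB fun x hx => by
    obtain ⟨y, hy, rfl⟩ := mem_cj_iff_exists.1 hx
    rw [centralizer_cj, show a * y * a⁻¹ * (a * y * a⁻¹) = a * (y * y) * a⁻¹ by group]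
    exact conj_mem_cj a (c y hy)
  rwa [← e, ← cj_inf, centralizer_cj, cj_le_cj_iff, cj_le_cj_iff] at this

theorem exists_cnj {s : G} (h : D.J s) :
    ∃ g, s ∈ (D.cnj g).E ∧ s ≠ 1 ∧ 𝐜[s] = (D.cnj g).M ∧ Nat.card (D.cnj g).E = Nat.card D.E := by
  obtain ⟨e, he, e1, hc⟩ := h
  obtain ⟨g, rfl⟩ := isConj_iff.1 hc
  have h1 : g * e * g⁻¹ ≠ 1 := fun h => e1 (by simpa using h)
  exact ⟨g, conj_mem_cj g he, h1, (H.cnj g).cent _ (conj_mem_cj g he) h1, card_cj g _⟩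

/-- Conjugate `a` into `Z`; `T ≤ C(a) = M'`, `a ∈ [T,T]`, so `a ∈ A'` by `comm` for `D.cnj g`, and
`a ∈ E'`. -/
theorem notJ {a : G} (ha : a ∈ D.A) : ¬ D.J a := by
  intro hJ
  obtain ⟨g, h1, -, -⟩ := H.exists_cnj hJ
  obtain ⟨b, -, hz⟩ := H.invA ha ((H.cnj g).E2 a h1)
  obtain ⟨g, h1, z1, h2, -⟩ := H.exists_cnj (hJ.conj b)
  generalize b * a * b⁻¹ = z at hz h1 z1 h2
  have TM : D.T ≤ (D.cnj g).M := fun t ht => by
    rw [← h2, mem_centralizer_singleton_iff]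
    exact hz.2 t ht
  obtain ⟨x, hx, x1⟩ := SetLike.not_le_iff_exists.1 H.not_ab
  obtain ⟨y, hy, e⟩ := H.commZ hx (fun h => x1 h.2) hz
  refine z1 ((H.cnj g).E_inf_A h1 ((H.cnj g).comm ?_ (isPGroup_iff.1 H.pT z hz.1)))
  rw [← e]
  exact commutator_mem_commutator (TM hy) (TM hx)

theorem Jrank {s : G} (hs : D.J s) {W : Subgroup G} (h : W ≤ 𝐜[s]) (W2 : ∀ w ∈ W, w * w = 1) :
    Nat.card W ≤ 2 * (Nat.card D.E * q) := by
  obtain ⟨g, -, -, h2, h3⟩ := H.exists_cnj hs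
  rw [← h3]
  exact (H.cnj g).rank (h2 ▸ h) W2

/-- `A` is generated by the 2-elements of `M'` (`comm`, `perf`, `gen`) -/
theorem NM : 𝐍[D.M] ≤ 𝐍[D.A] := by
  refine le_normalizer_iff_cj.2 fun g hg => cj_le_iff.2 (H.gen _ ?_ ?_)
  · rw [normalizer_cj]
    refine H.AM.trans ?_
    rw [← cj_of_mem_normalizer (inv_mem hg)]
    exact cj_mono _ H.MA
  · refine cj_le_iff.1 (cj_le_iff_forall.2 fun t ht => H.comm ?_
      (bB_P2_conj (isPGroup_iff.1 H.pT t ht) g))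
    refine conj_mem_of_mem_normalizer (le_normalizer_commutator le_rfl le_rfl hg) ?_
    exact commutator_mono H.AM H.AM (H.perf.ge (H.TA ht))

theorem bB_NM {g e : G} (he : e ∈ D.E) (e1 : e ≠ 1) (h : g * e * g⁻¹ ∈ D.E) : g ∈ 𝐍[D.M] := by
  rw [← cj_eq_iff, ← H.cent e he e1, ← centralizer_singleton_conj,
    H.cent _ h (fun h => e1 (by simpa using h)), H.cent e he e1]

theorem NE : 𝐍[D.E] ≤ 𝐍[D.M] := by
  intro g hg
  obtain ⟨⟨e, he⟩, e1⟩ := (ne_bot_iff_exists_ne_one.1 H.E1)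
  exact H.bB_NM he (fun h => e1 (Subtype.ext h)) (conj_mem_of_mem_normalizer hg he)

/-- `g` normalizes `M`, `A`, so the set `E` of 2-elements of `C_M(A)` -/
theorem tiE {g e : G} (he : e ∈ D.E) (e1 : e ≠ 1) (h : g * e * g⁻¹ ∈ D.E) : g ∈ 𝐍[D.E] := by
  have hM := H.bB_NM he e1 h
  refine mem_normalizer_of_cj_le (cj_le_iff_forall.2 fun x hx => H.two ?_ ?_ ?_)
  · exact conj_mem_of_mem_normalizer hM (H.EM hx)
  · exact conj_mem_of_mem_normalizer (normalizer_le_normalizer_centralizer _ (H.NM hM)) (H.EA hx)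
  · exact bB_P2_conj (isPGroup_iff.1 H.pE x hx) g

theorem twoNE {g : G} (hg : g ∈ 𝐍[D.E]) (h2 : P2 g) : g ∈ D.M := by
  obtain ⟨⟨e, he⟩, e1⟩ := ne_bot_iff_exists_ne_one.1
    (inf_centralizer_ne_bot (isPGroup_zpowers h2) H.pE (zpowers_le.2 hg) H.E1)
  rw [← H.cent e he.1 (fun h => e1 (Subtype.ext h)), mem_centralizer_singleton_iff]
  exact he.2 g (mem_zpowers g)

/-- B9. `T, h1 ≤ M^g`, so `T = [T,h1] ≤ A^g` by `comm`; `T` and `T^g` are Sylow in `A^g`. -/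
theorem b9 {g e : G} (he : e ∈ D.E) (e1 : e ≠ 1) (h : g * e * g⁻¹ ∈ 𝐂[D.T] ⊓ 𝐜[D.h1]) :
    ∃ a ∈ D.A, g * a ∈ 𝐍[D.T] := by
  have h1 : 𝐜[g * e * g⁻¹] = (D.cnj g).M :=
    (H.cnj g).cent _ (conj_mem_cj g he) fun h => e1 (by simpa using h)
  have TM : D.T ≤ (D.cnj g).M := fun t ht => by
    rw [← h1, mem_centralizer_singleton_iff]
    exact h.1 t ht
  have hM : D.h1 ∈ (D.cnj g).M := by
    rw [← h1, mem_centralizer_singleton_iff]
    exact h.2 _ rfl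
  have TA : D.T ≤ cj(g, D.A) := H.T_le_of_h1 fun x hx => (H.cnj g).comm
    (commutator_mem_commutator (TM hx) hM) (isPGroup_iff.1 H.pT _ (by
      have := mul_mem hx (conj_mem_of_mem_normalizer H.h1N (inv_mem hx))
      simpa only [mul_assoc] using this))
  obtain ⟨a, ha, h2⟩ := H.syl.exists_cj_le (isPGroup_cj g⁻¹ H.pT) (le_cj_iff.1 TA)
  rw [← cj_mul] at h2
  exact ⟨a⁻¹, inv_mem ha, by simpa using inv_mem (mem_normalizer_of_cj_le h2)⟩

/-- as `b9`, with `Z ≤ T ⊓ T^g` and the TI property in `A^g` -/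
theorem b9N {g e : G} (he : e ∈ D.E) (e1 : e ≠ 1) (h : g * e * g⁻¹ ∈ 𝐂[D.T] ⊓ 𝐜[D.h1])
    (hZ : g ∈ 𝐍[D.Z]) : g ∈ 𝐍[D.T] := by
  obtain ⟨a, ha, h1⟩ := H.b9 he e1 h
  have h2 : a ∈ 𝐍[D.Z] := (mul_mem_cancel_left hZ).1 (D.NZ h1)
  have h3 : D.Z ≠ ⊥ := fun e => by
    have := H.card_Z
    have := H.four
    rw [e, card_bot] at *
    omega
  obtain ⟨⟨z, hz⟩, z1⟩ := ne_bot_iff_exists_ne_one.1 h3
  exact (mul_mem_cancel_right (H.ti a ha z hz.1 (fun h => z1 (Subtype.ext h))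
    (conj_mem_of_mem_normalizer h2 hz).1)).1 h1

theorem exists_S0 {R : Subgroup G} (hR : IsPGroup 2 R) (h : R ≤ D.B) :
    ∃ S, IsSyl 2 S D.M ∧ S ≤ D.B ∧ R ≤ S ∧ D.T ⊔ D.E ≤ S := by
  obtain ⟨S, hS, h1⟩ := exists_isSyl_ge (isPGroup_sup hR H.bB_pTE
    (le_normalizer_sup (h.trans inf_le_right) ((h.trans inf_le_left).trans H.bB_MNE)))
    (sup_le (h.trans inf_le_left) (sup_le (H.TA.trans H.AM) H.EM))
  rw [sup_le_iff] at h1
  refine ⟨S, hS, le_inf hS.le ?_, h1.1, h1.2⟩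
  rw [← H.syl.eq (hS.pgrp.to_inf_left (K := D.A)) (le_inf (le_sup_left.trans h1.2) H.TA)
    inf_le_right]
  exact le_normalizer_inf le_normalizer (hS.le.trans H.MA)

theorem inf_A {S : Subgroup G} (hS : IsPGroup 2 S) (h : D.T ≤ S) {x : G} (hx : x ∈ S)
    (hA : x ∈ D.A) : x ∈ D.T := by
  exact H.syl.max _ (hS.to_inf_left (K := D.A)) (le_inf h H.TA) inf_le_right ⟨hx, hA⟩

/-- `b11` and `triv`, `fpf0` -/
theorem adj {s : G} (hs : s ∈ D.B) (h2 : P2 s) (h : D.Gam s) : ∃ x ∈ D.T,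
    x * s * D.h0 = D.h0 * (x * s) ∧ x * s * (x * s) ∈ D.E ∧ D.Gam (x * s) := by
  obtain ⟨x, hx, h1⟩ := H.b11 (H.MA hs.1) (Or.inr h)
  have h3 := (H.gam_mul h (H.T_le_N1 hx)).2
  refine ⟨x, hx, h1, ?_, h3⟩
  have h4 : P2 (x * s * (x * s)) := bA_P2_mul_self (isPGroup_iff.1
    (isPGroup_sup (isPGroup_zpowers h2) H.pT (zpowers_le.2 hs.2)) _
    (mul_mem (mem_sup_right hx) (mem_sup_left (mem_zpowers s))))
  have h5 : x * s ∈ D.M := mul_mem (H.AM (H.TA hx)) hs.1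
  obtain ⟨t, ht, e, he, h6⟩ := H.bB_mem_TE.1 (H.triv (mul_mem h5 h5) (H.gam_gam h3 h3 h4) h4)
  have c1 : Commute (x * s) D.h0 := h1
  have c2 : Commute (t * e) D.h0 := h6 ▸ c1.mul_left c1
  have c3 : Commute e D.h0 := H.ME (H.AM H.h0A) e he
  have c4 : Commute t D.h0 := by simpa using c2.mul_left c3.inv_left
  rw [h6, H.fpf0 ht c4.symm, one_mul]
  exact he

end ST

end Cfsg.Agent.U3S
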